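import Groth.Agent.FlatMor66.IndQA2
import Groth.Agent.VarGal.AffineUnion
import Mathlib.AlgebraicGeometry.Morphisms.Affine

/-!
Stable affine open neighbourhoods of finite sets in separated, locally quasi-finite schemes over
affine schemes.
-/

set_option autoImplicit false
set_option backward.isDefEq.respectTransparency.types false
universe u

open CategoryTheory CategoryTheory.Limits AlgebraicGeometry TopologicalSpace Opposite

namespace Groth.Agent.ConstQuot97

theorem exists_affineOpen_of_quasiAffine (W : Scheme.{u}) [W.IsQuasiAffine] {F : Set W} (hF : F.Finite) :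
    ∃ O : W.Opens, IsAffineOpen O ∧ F ⊆ O := by
  obtain ⟨h, hFh, hh⟩ := VarGal.exists_basicOpen_subset_of_finite (isAffineOpen_top (Spec Γ(W, ⊤)))
    W.toSpecΓ.opensRange (hF.image W.toSpecΓ) (by simp) (by rintro _ ⟨x, -, rfl⟩; exact ⟨x, rfl⟩)
  refine ⟨W.toSpecΓ ⁻¹ᵁ ((Spec Γ(W, ⊤)).basicOpen h), ?_, fun x hx => hFh ⟨x, hx, rfl⟩⟩
  exact ((isAffineOpen_top _).basicOpen h).preimage_of_isOpenImmersion W.toSpecΓ hh

theorem exists_affineOpen_of_finite {V Z : Scheme.{u}} [IsAffine Z] (q : V ⟶ Z) [IsSeparated q]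
    [LocallyQuasiFinite q] [LocallyOfFiniteType q] {F : Set V} (hF : F.Finite) :
    ∃ O : V.Opens, IsAffineOpen O ∧ F ⊆ O := by
  obtain ⟨W, hW, hFW, -⟩ := FlatMor66.exists_compact_opens_between (U := (⊤ : V.Opens)) hF.isCompact (by simp)
  have : CompactSpace W.toScheme := isCompact_iff_compactSpace.1 hW
  have := FlatMor66.qa_of_separated_lqf (W.ι ≫ q)
  obtain ⟨O, hO, hFO⟩ := exists_affineOpen_of_quasiAffine W.toScheme
    (hF.preimage W.ι.isOpenEmbedding.injective.injOn)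
  refine ⟨W.ι ''ᵁ O, hO.image_of_isOpenImmersion _, fun x hx => ?_⟩
  exact ⟨⟨x, hFW hx⟩, hFO hx, rfl⟩

theorem exists_affineOpen_stable {V : Scheme.{u}} [V.IsSeparated] {G : Type*} [Group G] [Finite G]
    (σ : G → (V ⟶ V)) (hσ1 : σ 1 = 𝟙 V) (hσ : ∀ g g', σ (g * g') = σ g ≫ σ g')
    {F : Set V} (hF : ∀ g, ∀ x ∈ F, σ g x ∈ F) (O : V.Opens) (hO : IsAffineOpen O) (hFO : F ⊆ O) :
    ∃ O' : V.Opens, IsAffineOpen O' ∧ F ⊆ O' ∧ ∀ g, σ g ⁻¹ᵁ O' = O' := by
  have hiso : ∀ g, IsIso (σ g) := fun g =>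
    ⟨σ g⁻¹, by rw [← hσ, mul_inv_cancel, hσ1], by rw [← hσ, inv_mul_cancel, hσ1]⟩
  refine ⟨⨅ g, σ g ⁻¹ᵁ O, IsAffineOpen.iInf (fun g => ?_), fun x hx => ?_, fun g => ?_⟩
  · have := hiso g
    exact hO.preimage_of_isIso (σ g)
  · rw [Opens.coe_iInf]
    exact Set.mem_iInter.2 fun g => hFO (hF g x hx)
  · ext x
    simp only [Scheme.Hom.coe_preimage, Opens.coe_iInf, Set.preimage_iInter, Set.mem_iInter]
    constructor
    · intro h k
      have h1 := h (g⁻¹ * k)
      rw [Set.mem_preimage, Set.mem_preimage, ← Scheme.Hom.comp_apply, ← hσ, mul_inv_cancel_left] at h1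
      exact h1
    · intro h k
      rw [Set.mem_preimage, Set.mem_preimage, ← Scheme.Hom.comp_apply, ← hσ]
      exact h (g * k)

end Groth.Agent.ConstQuot97
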