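import Groth.Agent.ConstQuot97.BCIso
import Groth.Agent.ConstQuot97.OrbitOpen
import Groth.Agent.SpPts86.DiagProps
import Groth.Agent.FlatMor66.OnePoint
import Groth.Prelude.Def_ConstAct
import Mathlib.AlgebraicGeometry.Pullbacks

/-!
Étale charts of the spectrum of invariants over which an invariant map to an algebraic space
descends.
-/

set_option autoImplicit false
set_option maxHeartbeats 2000000
set_option backward.isDefEq.respectTransparency false
set_option backward.isDefEq.respectTransparency.types false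
universe u

open CategoryTheory CategoryTheory.Limits AlgebraicGeometry Opposite TopologicalSpace
open AlgSp Groth.Agent.SpFP87
open scoped TensorProduct

noncomputable section

namespace Groth.Agent.ConstQuot97

variable (R : Type u) [CommRing R] [IsNoetherianRing R]
variable (A : Type u) [CommRing A] [Algebra R A] [Algebra.FiniteType R A]
variable (G : Type u) [Group G] [Finite G] [MulSemiringAction G A] [SMulCommClass G R A]

local notation "SR" => Spec (CommRingCat.of R)

/-- The inclusion of the invariants, as a ring map. -/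
def incl : CommRingCat.of (ConstAct.inv R A G) ⟶ CommRingCat.of A :=
  CommRingCat.ofHom (ConstAct.inv R A G).val.toRingHom

/-- A chart: an affine equivariant étale scheme over `Spec A`, separating the inertia, descends. -/
theorem exists_descent_of_affine (U : Over SR) (B : CommRingCat.{u})
    (q : Spec B ⟶ Spec (CommRingCat.of A)) [Etale q] (r : Spec B ⟶ U.left)
    (hr : r ≫ U.hom = q ≫ (ConstAct.specA R A).hom)
    (U₀ : U.left.Opens) (hU₀ : IsAffineOpen U₀) (hrU : Set.range r ⊆ U₀)
    (σ : G → (Spec B ⟶ Spec B)) (hσ1 : σ 1 = 𝟙 _) (hσ : ∀ g g', σ (g * g') = σ g ≫ σ g')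
    (hσq : ∀ g, σ g ≫ q = q ≫ (ConstAct.act R A G g).left) (hσr : ∀ g, σ g ≫ r = r)
    (hmono : ∀ (T : Scheme.{u}) (a b : T ⟶ Spec B), a ≫ q = b ≫ q → a ≫ r = b ≫ r → a = b) :
    ∃ (Y' : Over SR) (t : Y' ⟶ ConstAct.specInv R A G) (k : Y' ⟶ U) (c : Spec B ⟶ Y'.left),
      Etale t.left ∧ IsPullback c q t.left (ConstAct.quot R A G).left ∧ c ≫ k.left = r := by
  classical
  let qA : CommRingCat.of A ⟶ B := Spec.preimage q
  have hqA : Spec.map qA = q := Spec.map_preimage q
  let τ : G → (B ⟶ B) := fun g => Spec.preimage (σ g)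
  have hτ : ∀ g, Spec.map (τ g) = σ g := fun g => Spec.map_preimage _
  have hτmul : ∀ g g', τ (g * g') = τ g' ≫ τ g := fun g g' => Spec.map_injective (by
    rw [Spec.map_comp, hτ, hτ, hτ, hσ])
  have hτ1 : τ 1 = 𝟙 B := Spec.map_injective (by rw [hτ, hσ1, Spec.map_id])
  letI : MulSemiringAction G B :=
    { smul := fun g b => (τ g).hom b
      one_smul := fun b => by show (τ 1).hom b = b; rw [hτ1]; rfl
      mul_smul := fun g g' b => by show (τ (g * g')).hom b = _; rw [hτmul]; rfl
      smul_zero := fun g => map_zero _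
      smul_add := fun g => map_add _
      smul_one := fun g => map_one _
      smul_mul := fun g => map_mul _ }
  letI : Algebra A B := qA.hom.toAlgebra
  letI : Algebra R B := (qA.hom.comp (algebraMap R A)).toAlgebra
  haveI : IsScalarTower R A B := IsScalarTower.of_algebraMap_eq fun _ => rfl
  haveI : Algebra.Etale A B := RingHom.etale_algebraMap.1
    ((HasRingHomProperty.Spec_iff (P := @Etale) (φ := qA)).1 (hqA ▸ ‹Etale q›))
  have hGeq : ∀ (g : G) (a : A), algebraMap A B (g • a) = g • algebraMap A B a := fun g a => by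
    have h : (CommRingCat.ofHom (MulSemiringAction.toRingHom G A g) : CommRingCat.of A ⟶ CommRingCat.of A) ≫ qA =
        qA ≫ τ g := Spec.map_injective (by rw [Spec.map_comp, Spec.map_comp, hτ, hqA]; exact (hσq g).symm)
    exact congrArg (fun k : CommRingCat.of A ⟶ B => k.hom a) h
  haveI : SMulCommClass G R B := ⟨fun g s b => by
    rw [Algebra.smul_def, Algebra.smul_def, smul_mul']
    congr 1
    show g • algebraMap A B (algebraMap R A s) = _
    rw [← hGeq, smul_algebraMap]
    rfl⟩
  haveI : Algebra.FiniteType R B := Algebra.FiniteType.trans (S := A) inferInstance inferInstance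
  have hstab : StabPres A B G := by
    intro K hK g p hp b
    let P : CommRingCat.of B ⟶ CommRingCat.of K := CommRingCat.ofHom p
    have h : Spec.map P ≫ σ g = Spec.map P := by
      apply hmono
      · rw [← hqA, ← hτ, ← Spec.map_comp, ← Spec.map_comp, ← Spec.map_comp]
        congr 1
        refine CommRingCat.hom_ext (RingHom.ext fun a => ?_)
        show p (g • algebraMap A B a) = p (algebraMap A B a)
        rw [← hGeq]; exact hp a
      · rw [Category.assoc, hσr]
    rw [← hτ, ← Spec.map_comp] at h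
    exact congrArg (fun k : CommRingCat.of B ⟶ CommRingCat.of K => k.hom b) (Spec.map_injective h)
  let C := ConstAct.inv R A G
  let D := ConstAct.inv R B G
  letI : Algebra C D := (fixedMap R A B G hGeq).toAlgebra
  haveI : IsScalarTower C D B := IsScalarTower.of_algebraMap_eq fun _ => rfl
  haveI : Algebra.Etale C D := etale_fixedMap hGeq hstab
  -- the invariant function to the affine open
  let r₀ : Spec B ⟶ U₀.toScheme := IsOpenImmersion.lift U₀.ι r (by simpa using hrU)
  have hr₀ : r₀ ≫ U₀.ι = r := IsOpenImmersion.lift_fac _ _ _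
  let φ : Γ(U.left, U₀) ⟶ B := Spec.preimage (r₀ ≫ hU₀.isoSpec.hom)
  have hφ : Spec.map φ = r₀ ≫ hU₀.isoSpec.hom := Spec.map_preimage _
  have hinv : ∀ z, φ.hom z ∈ D := fun z g => by
    have h : φ ≫ τ g = φ := Spec.map_injective (by
      rw [Spec.map_comp, hτ, hφ, ← Category.assoc]
      congr 1
      rw [← cancel_mono U₀.ι, Category.assoc, hr₀, hσr])
    exact congrArg (fun k : Γ(U.left, U₀) ⟶ B => k.hom z) h
  let φ' : Γ(U.left, U₀) ⟶ CommRingCat.of D := CommRingCat.ofHom (φ.hom.codRestrict D.toSubring hinv)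
  let ι : CommRingCat.of D ⟶ B := CommRingCat.ofHom D.val.toRingHom
  let k₀ : Spec (CommRingCat.of D) ⟶ U.left := Spec.map φ' ≫ hU₀.isoSpec.inv ≫ U₀.ι
  have hk₀ : Spec.map ι ≫ k₀ = r := by
    rw [← Category.assoc, ← Spec.map_comp,
      show φ' ≫ ι = φ from rfl, hφ, Category.assoc, Iso.hom_inv_id_assoc, hr₀]
  have hk : k₀ ≫ U.hom = (ConstAct.specInv R B G).hom := by
    obtain ⟨m, hm⟩ := Spec.map_surjective (k₀ ≫ U.hom)
    have h1 : Spec.map (m ≫ ι) = Spec.map (CommRingCat.ofHom (algebraMap R A) ≫ qA) := by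
      rw [Spec.map_comp, Spec.map_comp, hm, ← Category.assoc, hk₀, hr, hqA]
      rfl
    rw [← hm]
    show Spec.map m = Spec.map _
    congr 1
    refine CommRingCat.hom_ext (RingHom.ext fun s => Subtype.val_injective ?_)
    exact congrArg (fun k : CommRingCat.of R ⟶ B => k.hom s) (Spec.map_injective h1)
  refine ⟨ConstAct.specInv R B G,
    Over.homMk (Spec.map (CommRingCat.ofHom (algebraMap C D))) ?_, Over.homMk k₀ hk, Spec.map ι, ?_, ?_, hk₀⟩
  · show Spec.map _ ≫ Spec.map _ = Spec.map _
    rw [← Spec.map_comp, ← CommRingCat.ofHom_comp]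
    congr 2
  · exact HasRingHomProperty.Spec_iff.2 (RingHom.etale_algebraMap.2 inferInstance)
  · let e : A ⊗[C] D ≃+* B := RingEquiv.ofBijective (bcMap (R := R) (A := A) (B := B) (G := G)).toRingHom
      (bijective_bcMap hGeq hstab)
    have hp : IsPushout (CommRingCat.ofHom (algebraMap C A)) (CommRingCat.ofHom (algebraMap C D)) qA ι := by
      refine (CommRingCat.isPushout_tensorProduct C A D).of_iso (Iso.refl _) (Iso.refl _) (Iso.refl _)
        e.toCommRingCatIso (by simp) (by simp) ?_ ?_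
      · refine CommRingCat.hom_ext (RingHom.ext fun a => ?_)
        show bcMap (a ⊗ₜ[C] (1 : D)) = qA.hom a
        rw [bcMap, Algebra.TensorProduct.lift_tmul, map_one, _root_.mul_one]
        rfl
      · refine CommRingCat.hom_ext (RingHom.ext fun d => ?_)
        show bcMap ((1 : A) ⊗ₜ[C] d) = (d : B)
        rw [bcMap, Algebra.TensorProduct.lift_tmul, map_one, _root_.one_mul]
        rfl
    rw [← hqA]
    exact (isPullback_SpecMap_of_isPushout _ _ _ _ hp).flip

variable {R A G}

/-- Every point of `Spec A` has an étale chart of the invariants over which `ψ` descends. -/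
theorem exists_chart {N : Sp SR} (hN : IsAlgSpace N) (ψ : (yon SR).obj (ConstAct.specA R A) ⟶ N)
    (hψ : ∀ g : G, (yon SR).map (ConstAct.act R A G g) ≫ ψ = ψ) (x : Spec (CommRingCat.of A)) :
    ∃ (Y' : Over SR) (t : Y' ⟶ ConstAct.specInv R A G) (χ : (yon SR).obj Y' ⟶ N),
      Etale t.left ∧ (ConstAct.quot R A G).left x ∈ Set.range t.left ∧
      ∀ (W : Over SR) (a : W ⟶ Y') (b : W ⟶ ConstAct.specA R A), a ≫ t = b ≫ ConstAct.quot R A G →
        (yon SR).map a ≫ χ = (yon SR).map b ≫ ψ := by
  obtain ⟨U, p, hpe, hps⟩ := hN.atlas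
  obtain ⟨X', q, r, sq⟩ := exists_isPullback_yon hN.diag ψ p
  have : Etale q.left := hpe.property _ _ _ sq.flip
  have : Surjective q.left := hps.property _ _ _ sq.flip
  have hext : ∀ {T : Over SR} (a b : T ⟶ X'), a ≫ q = b ≫ q → a ≫ r = b ≫ r → a = b := fun {T} a b h1 h2 =>
    (yon SR).map_injective (sq.hom_ext (by rw [← Functor.map_comp, h1, Functor.map_comp])
      (by rw [← Functor.map_comp, h2, Functor.map_comp]))
  have hlift : ∀ g : G, ∃ s : X' ⟶ X', s ≫ q = q ≫ ConstAct.act R A G g ∧ s ≫ r = r := fun g => by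
    have hw : (yon SR).map (q ≫ ConstAct.act R A G g) ≫ ψ = (yon SR).map r ≫ p := by
      rw [Functor.map_comp, Category.assoc, hψ, sq.w]
    obtain ⟨s, hs⟩ := (yon SR).map_surjective (sq.lift _ _ hw)
    exact ⟨s, (yon SR).map_injective (by rw [Functor.map_comp, hs, sq.lift_fst]),
      (yon SR).map_injective (by rw [Functor.map_comp, hs, sq.lift_snd])⟩
  choose σ hσq hσr using hlift
  have hσ1 : σ 1 = 𝟙 X' := hext _ _ (by rw [hσq, ConstAct.act_one, Category.comp_id, Category.id_comp])
    (by rw [hσr, Category.id_comp])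
  have hσ : ∀ g g', σ (g * g') = σ g ≫ σ g' := fun g g' => hext _ _
    (by rw [hσq, Category.assoc, hσq, ← Category.assoc, hσq, Category.assoc, ← ConstAct.act_mul])
    (by rw [hσr, Category.assoc, hσr, hσr])
  obtain ⟨x', hx'⟩ := q.left.surjective x
  obtain ⟨U₀, hU₀, hu, -⟩ := exists_isAffineOpen_mem_and_subset (x := r.left x') (U := ⊤) trivial
  let V : X'.left.Opens := r.left ⁻¹ᵁ U₀
  have hσV : ∀ g, (σ g).left ⁻¹ᵁ V = V := fun g => by
    show (σ g).left ⁻¹ᵁ (r.left ⁻¹ᵁ U₀) = _
    rw [← Scheme.Hom.comp_preimage, ← Over.comp_left, hσr]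
  have hmono : ∀ (T : Scheme.{u}) (a b : T ⟶ X'.left), a ≫ q.left = b ≫ q.left → a ≫ r.left = b ≫ r.left →
      a = b := fun T a b h1 h2 => by
    have hab : b ≫ X'.hom = a ≫ X'.hom := by rw [← Over.w q, ← Category.assoc, ← h1, Category.assoc]
    exact congrArg CommaMorphism.left (hext (T := Over.mk (a ≫ X'.hom)) (Over.homMk a rfl) (Over.homMk b hab)
      (Over.OverMorphism.ext h1) (Over.OverMorphism.ext h2))
  -- the part over `U₀` is separated
  let m : V.toScheme ⟶ pullback (ConstAct.specA R A).hom (U₀.ι ≫ U.hom) :=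
    pullback.lift (V.ι ≫ q.left) (r.left.resLE U₀ V le_rfl) (by
      rw [Category.assoc, Over.w, Scheme.Hom.resLE_comp_ι_assoc, Over.w])
  have : Mono m := ⟨fun {T} a b h => by
    rw [← cancel_mono V.ι]
    refine hmono T _ _ ?_ ?_
    · simpa [m] using congrArg (· ≫ pullback.fst _ _) h
    · simpa [m] using congrArg (· ≫ pullback.snd _ _ ≫ U₀.ι) h⟩
  have : IsAffine U₀.toScheme := hU₀
  have : IsAffine (ConstAct.specA R A).left := inferInstanceAs (IsAffine (Spec _))
  have : IsAffine (pullback (ConstAct.specA R A).hom (U₀.ι ≫ U.hom)) := inferInstance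
  have : V.toScheme.IsSeparated := ⟨by
    rw [← terminal.comp_from m]
    infer_instance⟩
  have : IsSeparated (V.ι ≫ q.left) := IsSeparated.of_comp _ (terminal.from _) 
  have : Etale (V.ι ≫ q.left) := inferInstance
  have := FlatMor66.lqf_of_etale (V.ι ≫ q.left)
  -- a stable affine open around the orbit
  let σV : G → (V.toScheme ⟶ V.toScheme) := fun g => (σ g).left.resLE V V (hσV g).ge
  have hσVι : ∀ g, σV g ≫ V.ι = V.ι ≫ (σ g).left := fun g => Scheme.Hom.resLE_comp_ι _ _
  have hσV1 : σV 1 = 𝟙 _ := by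
    rw [← cancel_mono V.ι, hσVι, hσ1, Category.id_comp]
    exact Category.comp_id _
  have hσVm : ∀ g g', σV (g * g') = σV g ≫ σV g' := fun g g' => by
    rw [← cancel_mono V.ι, Category.assoc, hσVι, hσVι, reassoc_of% (hσVι g), hσ, Over.comp_left]
  let F : Set V.toScheme := Set.range fun g => σV g ⟨x', hu⟩
  have hF : ∀ g, ∀ z ∈ F, σV g z ∈ F := by
    rintro g _ ⟨k, rfl⟩
    exact ⟨k * g, by show σV (k * g) _ = _; rw [hσVm]; rfl⟩
  obtain ⟨O, hO, hFO⟩ := exists_affineOpen_of_finite (Z := Spec (CommRingCat.of A)) (V.ι ≫ q.left) (F := F) (Set.finite_range _)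
  obtain ⟨O', hO', hFO', hσO⟩ := exists_affineOpen_stable σV hσV1 hσVm hF O hO hFO
  let B : CommRingCat.{u} := Γ(V.toScheme, O')
  let e : Spec B ≅ O'.toScheme := hO'.isoSpec.symm
  obtain ⟨j, hj⟩ : ∃ j : Spec B ⟶ X'.left, j = e.hom ≫ O'.ι ≫ V.ι := ⟨_, rfl⟩
  have : Etale (j ≫ q.left) := by rw [hj]; infer_instance
  have : Mono j := by rw [hj]; infer_instance
  obtain ⟨σB, hσB⟩ : ∃ σB : G → (Spec B ⟶ Spec B),
      σB = fun g => e.hom ≫ (σV g).resLE O' O' (hσO g).ge ≫ e.inv := ⟨_, rfl⟩
  have hσBj : ∀ g, σB g ≫ j = j ≫ (σ g).left := fun g => by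
    simp only [hσB, hj, Category.assoc, Iso.inv_hom_id_assoc, Scheme.Hom.resLE_comp_ι_assoc, hσVι]
  obtain ⟨Y', t, k, c, ht, hpb, hck⟩ := exists_descent_of_affine R A G U B (j ≫ q.left) (j ≫ r.left)
    (by rw [Category.assoc, Category.assoc, Over.w, Over.w]) U₀ hU₀ (by
      rintro _ ⟨z, rfl⟩
      rw [hj]
      exact ((O'.ι (e.hom z)).2 : V.ι (O'.ι (e.hom z)) ∈ V)) σB
    (by rw [← cancel_mono j, hσBj, hσ1, Category.id_comp]; exact Category.comp_id j)
    (fun g g' => by rw [← cancel_mono j, Category.assoc, hσBj, hσBj, reassoc_of% (hσBj g), hσ, Over.comp_left])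
    (fun g => by rw [← Category.assoc, hσBj, Category.assoc, ← Over.comp_left, hσq, Over.comp_left, Category.assoc])
    (fun g => by rw [← Category.assoc, hσBj, Category.assoc, ← Over.comp_left, hσr])
    (fun T a b h1 h2 => by
      rw [← cancel_mono j]
      exact hmono T _ _ (by simpa only [Category.assoc] using h1) (by simpa only [Category.assoc] using h2))
  refine ⟨Y', t, (yon SR).map k ≫ p, ht, ⟨c (e.inv ⟨⟨x', hu⟩, hFO' ⟨1, ?_⟩⟩), ?_⟩, fun W a b hab => ?_⟩
  · show σV 1 _ = _
    rw [hσV1]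
    rfl
  · rw [← Scheme.Hom.comp_apply, hpb.w, Scheme.Hom.comp_apply, ← hx']
    congr 1
    rw [← Scheme.Hom.comp_apply]
    simp only [hj, Category.assoc, Iso.inv_hom_id_assoc]
    rfl
  · let w : W.left ⟶ Spec B := hpb.lift a.left b.left (congrArg CommaMorphism.left hab)
    have hw1 : w ≫ c = a.left := hpb.lift_fst _ _ _
    have hw2 : w ≫ j ≫ q.left = b.left := hpb.lift_snd _ _ _
    let wX : W ⟶ X' := Over.homMk (w ≫ j) (by
      rw [← Over.w q, ← Category.assoc, Category.assoc w j, hw2, Over.w])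
    have hb : wX ≫ q = b := Over.OverMorphism.ext ((Category.assoc _ _ _).trans hw2)
    have ha : wX ≫ r = a ≫ k := Over.OverMorphism.ext (by
      show (w ≫ j) ≫ r.left = a.left ≫ k.left
      rw [Category.assoc, ← hw1, Category.assoc, hck])
    rw [← Category.assoc, ← Functor.map_comp, ← ha, ← hb, Functor.map_comp, Functor.map_comp, Category.assoc,
      Category.assoc, sq.w]

end Groth.Agent.ConstQuot97
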