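import Groth.Agent.ConstQuot97.Uniq
import Groth.Agent.ConstQuot97.Chart
import Groth.Agent.SpPts86.CovSigma
import Mathlib.AlgebraicGeometry.Morphisms.SchemeTheoreticallyDominant

/-!
The spectrum of invariants of a finite group is a categorical quotient in algebraic spaces.
-/

set_option autoImplicit false
set_option maxHeartbeats 1000000
set_option backward.isDefEq.respectTransparency false
set_option backward.isDefEq.respectTransparency.types false
universe u

open CategoryTheory CategoryTheory.Limits AlgebraicGeometry Opposite TopologicalSpace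
open AlgSp Groth.Agent.SpFP87

noncomputable section

namespace Groth.Agent.ConstQuot97

variable {R : Type u} [CommRing R] {A : Type u} [CommRing A] [Algebra R A]
variable {G : Type u} [Group G] [Finite G] [MulSemiringAction G A] [SMulCommClass G R A]

local notation "SR" => Spec (CommRingCat.of R)

theorem isIntegralHom_quot : IsIntegralHom (ConstAct.quot R A G).left := by
  haveI := FinGrp34.fixed_isInvariant R A G
  haveI := FinGrp34.fixed_smulComm R A G
  have := Algebra.IsInvariant.isIntegral (ConstAct.inv R A G) A G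
  show IsIntegralHom (Spec.map (CommRingCat.ofHom (algebraMap (ConstAct.inv R A G) A)))
  rw [IsIntegralHom.SpecMap_iff]
  exact algebraMap_isIntegral_iff.2 this

theorem surjective_quot : Surjective (ConstAct.quot R A G).left := by
  haveI := FinGrp34.fixed_isInvariant R A G
  haveI := FinGrp34.fixed_smulComm R A G
  have := Algebra.IsInvariant.isIntegral (ConstAct.inv R A G) A G
  refine ⟨fun P => ?_⟩
  obtain ⟨Q, -, hQ, hQP⟩ := Ideal.exists_ideal_over_prime_of_isIntegral (P : PrimeSpectrum (ConstAct.inv R A G)).asIdeal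
    (⊥ : Ideal A) (fun z hz => by
      have : z = 0 := Subtype.val_injective hz
      rw [this]
      exact zero_mem _)
  exact ⟨(⟨Q, hQ⟩ : PrimeSpectrum A), PrimeSpectrum.ext hQP⟩

theorem dominant_quot : IsSchemeTheoreticallyDominant (ConstAct.quot R A G).left := by
  show IsSchemeTheoreticallyDominant (Spec.map (CommRingCat.ofHom (algebraMap (ConstAct.inv R A G) A)))
  refine ⟨Scheme.IdealSheafData.ext_of_isAffine ?_⟩
  rw [Scheme.Hom.ker_apply, Scheme.IdealSheafData.ideal_bot, Pi.bot_apply,
    ← RingHom.injective_iff_ker_eq_bot]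
  intro y z h
  have h1 := congrArg (Scheme.ΓSpecIso _).hom.hom h
  have h2 := fun w => congrArg (fun k => k.hom w) (Scheme.ΓSpecIso_naturality
    (CommRingCat.ofHom (algebraMap (ConstAct.inv R A G) A)))
  simp only [CommRingCat.hom_comp, RingHom.comp_apply] at h2
  refine (Scheme.ΓSpecIso _).commRingCatIsoToRingEquiv.injective (Subtype.val_injective ?_)
  exact ((h2 y).symm.trans h1).trans (h2 z)

/-- Base change of the quotient map along a flat morphism is epi for maps to algebraic spaces. -/
theorem hom_eq_of_flat {N : Sp SR} (hN : IsAlgSpace N) {W : Over SR} (u : W ⟶ ConstAct.specInv R A G)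
    [Flat u.left] (a b : (yon SR).obj W ⟶ N)
    (h : ∀ (P : Over SR) (p : P ⟶ W) (q : P ⟶ ConstAct.specA R A), p ≫ u = q ≫ ConstAct.quot R A G →
      (yon SR).map p ≫ a = (yon SR).map p ≫ b) : a = b := by
  have := isIntegralHom_quot (R := R) (A := A) (G := G)
  have := surjective_quot (R := R) (A := A) (G := G)
  have := dominant_quot (R := R) (A := A) (G := G)
  let f := (ConstAct.quot R A G).left
  let P : Over SR := Over.mk (pullback.fst u.left f ≫ W.hom)
  let p : P ⟶ W := Over.homMk (pullback.fst u.left f) rfl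
  let q : P ⟶ ConstAct.specA R A := Over.homMk (pullback.snd u.left f) (by
    show _ = pullback.fst u.left f ≫ W.hom
    rw [← Over.w u, ← Over.w (ConstAct.quot R A G), ← Category.assoc, ← Category.assoc, pullback.condition])
  have : IsIntegralHom p.left := inferInstanceAs (IsIntegralHom (pullback.fst u.left f))
  have : Surjective p.left := inferInstanceAs (Surjective (pullback.fst u.left f))
  refine sp_hom_eq_of_integral hN p ?_ a b (h P p q (Over.OverMorphism.ext pullback.condition))
  exact IsSchemeTheoreticallyDominant.ker_eq_bot (pullback.fst u.left f)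

variable [IsNoetherianRing R] [Algebra.FiniteType R A]

/-- Invariant maps from `Spec A` to an algebraic space factor uniquely through `Spec A^G`. -/
theorem existsUnique_desc {N : Sp SR} (hN : IsAlgSpace N) (ψ : (yon SR).obj (ConstAct.specA R A) ⟶ N)
    (hψ : ∀ g : G, (yon SR).map (ConstAct.act R A G g) ≫ ψ = ψ) :
    ∃! χ : (yon SR).obj (ConstAct.specInv R A G) ⟶ N, (yon SR).map (ConstAct.quot R A G) ≫ χ = ψ := by
  have := isIntegralHom_quot (R := R) (A := A) (G := G)
  have := surjective_quot (R := R) (A := A) (G := G)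
  choose Y t χ ht hx hχ using exists_chart hN ψ hψ
  have hcov : fppfSurj (SpPts86.sigmaOut t).left := SpPts86.fppfSurj_sigmaOut t
    (fun x => by haveI := ht x; exact ⟨inferInstance, inferInstance⟩)
    (fun y => by
      obtain ⟨x, rfl⟩ := (ConstAct.quot R A G).left.surjective y
      exact ⟨x, hx x⟩)
  obtain ⟨L, hL⟩ := SpPts86.sigma_glue Y χ
  let T := SpPts86.sigmaOver Y
  let c : T ⟶ ConstAct.specInv R A G := SpPts86.sigmaOut t
  have hc : Etale c.left := IsZariskiLocalAtSource.sigmaDesc (P := @Etale) fun x => ht x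
  -- the defining property passes to the disjoint union
  have hoi : ∀ x, IsOpenImmersion (SpPts86.sigmaIn Y x).left := fun x =>
    inferInstanceAs (IsOpenImmersion (Sigma.ι (fun x => (Y x).left) x))
  have hT : ∀ (W : Over SR) (a : W ⟶ T) (b : W ⟶ ConstAct.specA R A), a ≫ c = b ≫ ConstAct.quot R A G →
      (yon SR).map a ≫ L = (yon SR).map b ≫ ψ := by
    intro W a b hab
    refine SpPts86.open_cover_hom_ext (fun x => Over.mk ((a.left ⁻¹ᵁ (SpPts86.sigmaIn Y x).left.opensRange).ι ≫ W.hom))
      (fun x => Over.homMk (a.left ⁻¹ᵁ (SpPts86.sigmaIn Y x).left.opensRange).ι rfl)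
      (fun x => inferInstanceAs (IsOpenImmersion (Scheme.Opens.ι _))) (fun w => ?_) (fun x => ?_)
    · obtain ⟨⟨x, v⟩, hv⟩ := (sigmaMk (fun x => (Y x).left)).surjective (a.left w)
      have hw : w ∈ a.left ⁻¹ᵁ (SpPts86.sigmaIn Y x).left.opensRange :=
        ⟨v, by rw [← hv, sigmaMk_mk]; rfl⟩
      exact ⟨x, ⟨w, hw⟩, rfl⟩
    · let V := a.left ⁻¹ᵁ (SpPts86.sigmaIn Y x).left.opensRange
      let e : Over.mk (V.ι ≫ W.hom) ⟶ W := Over.homMk V.ι rfl
      let l₀ : V.toScheme ⟶ (Y x).left := IsOpenImmersion.lift (SpPts86.sigmaIn Y x).left (V.ι ≫ a.left) (by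
        rintro _ ⟨z, rfl⟩; exact z.2)
      have hl₀ : l₀ ≫ (SpPts86.sigmaIn Y x).left = V.ι ≫ a.left := IsOpenImmersion.lift_fac _ _ _
      let l : Over.mk (V.ι ≫ W.hom) ⟶ Y x := Over.homMk l₀ (by
        rw [← Over.w (SpPts86.sigmaIn Y x), ← Category.assoc, hl₀, Category.assoc, Over.w]; rfl)
      have hl : l ≫ SpPts86.sigmaIn Y x = e ≫ a := Over.OverMorphism.ext hl₀
      show (yon SR).map e ≫ _ = (yon SR).map e ≫ _
      rw [← Category.assoc, ← Functor.map_comp, ← hl, Functor.map_comp, Category.assoc, hL,
        hχ x _ l (e ≫ b) (by rw [← SpPts86.sigmaIn_out t x, ← Category.assoc, hl, Category.assoc, hab,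
          Category.assoc]), Functor.map_comp, Category.assoc]
  -- compatibility
  obtain ⟨χ', hχ', -⟩ := cover_existsUnique_desc c hcov L fun Z p₁ p₂ hp => by
    let E : Over SR := Over.mk (pullback.fst c.left c.left ≫ T.hom)
    let e₁ : E ⟶ T := Over.homMk (pullback.fst c.left c.left) rfl
    let e₂ : E ⟶ T := Over.homMk (pullback.snd c.left c.left) (by
      show _ = pullback.fst c.left c.left ≫ T.hom
      rw [← Over.w c, ← Category.assoc, ← Category.assoc, pullback.condition])
    have hE : e₁ ≫ c = e₂ ≫ c := Over.OverMorphism.ext pullback.condition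
    have : Flat (e₁ ≫ c).left := inferInstanceAs (Flat (pullback.fst c.left c.left ≫ c.left))
    have key : (yon SR).map e₁ ≫ L = (yon SR).map e₂ ≫ L :=
      hom_eq_of_flat hN (e₁ ≫ c) _ _ fun P p q hpq => by
        rw [← Category.assoc, ← Category.assoc, ← Functor.map_comp, ← Functor.map_comp,
          hT P (p ≫ e₁) q (by rw [Category.assoc]; exact hpq),
          hT P (p ≫ e₂) q (by rw [Category.assoc, ← hE]; exact hpq)]
    let z : Z ⟶ E := Over.homMk (pullback.lift p₁.left p₂.left (congrArg CommaMorphism.left hp)) (by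
      show _ ≫ pullback.fst _ _ ≫ T.hom = _
      rw [pullback.lift_fst_assoc, Over.w])
    have h1 : z ≫ e₁ = p₁ := Over.OverMorphism.ext (pullback.lift_fst _ _ _)
    have h2 : z ≫ e₂ = p₂ := Over.OverMorphism.ext (pullback.lift_snd _ _ _)
    rw [← h1, ← h2, Functor.map_comp, Functor.map_comp, Category.assoc, Category.assoc, key]
  have hfac : (yon SR).map (ConstAct.quot R A G) ≫ χ' = ψ := by
    let P : Over SR := Over.mk (pullback.snd c.left (ConstAct.quot R A G).left ≫ (ConstAct.specA R A).hom)
    let p : P ⟶ ConstAct.specA R A := Over.homMk (pullback.snd c.left (ConstAct.quot R A G).left) rfl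
    let q : P ⟶ T := Over.homMk (pullback.fst c.left (ConstAct.quot R A G).left) (by
      show _ = pullback.snd c.left _ ≫ (ConstAct.specA R A).hom
      rw [← Over.w c, ← Over.w (ConstAct.quot R A G), ← Category.assoc, ← Category.assoc, pullback.condition])
    have hpq : q ≫ c = p ≫ ConstAct.quot R A G := Over.OverMorphism.ext pullback.condition
    have hpc : fppfSurj p.left := by
      obtain ⟨_, _, _⟩ := (fppfSurj_iff _).1 hcov
      exact (fppfSurj_iff _).2 ⟨inferInstanceAs (Surjective (pullback.snd _ _)), inferInstanceAs (Flat (pullback.snd _ _)),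
        inferInstanceAs (LocallyOfFinitePresentation (pullback.snd _ _))⟩
    refine cover_hom_ext p hpc ?_
    rw [← Category.assoc, ← Functor.map_comp, ← hpq, Functor.map_comp, Category.assoc, hχ', hT P q p hpq]
  refine ⟨χ', hfac, fun χ'' h'' => ?_⟩
  exact sp_hom_eq_of_integral hN (ConstAct.quot R A G) (dominant_quot (R := R) (A := A) (G := G)).ker_eq_bot _ _
    (h''.trans hfac.symm)

end Groth.Agent.ConstQuot97
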