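import Groth.Agent.FinGrp34.FixedEtale
import Groth.Agent.Fam20.QuotGeom
import Groth.Agent.Sga84.Epi
import Mathlib.AlgebraicGeometry.Morphisms.Etale
import Mathlib.FieldTheory.IsAlgClosed.AlgebraicClosure

/-!
An equivariant étale map preserving the inertia of all field-valued points is the base change of the
map of invariants.
-/

set_option autoImplicit false
universe u

open CategoryTheory AlgebraicGeometry TensorProduct

noncomputable section

namespace Groth.Agent.ConstQuot97

variable (R : Type u) [CommRing R] [IsNoetherianRing R] (A B : Type u) [CommRing A] [CommRing B]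
  [Algebra R A] [Algebra R B] [Algebra.FiniteType R A] [Algebra.FiniteType R B]
  (G : Type u) [Group G] [Finite G] [MulSemiringAction G A] [MulSemiringAction G B]
  [SMulCommClass G R A] [SMulCommClass G R B]
  [Algebra A B] [IsScalarTower R A B]

/-- The map of invariants of an equivariant map. -/
def fixedMap (hGeq : ∀ (g : G) (a : A), algebraMap A B (g • a) = g • algebraMap A B a) :
    FixedPoints.subalgebra R A G →+* FixedPoints.subalgebra R B G :=
  ((algebraMap A B).comp (FixedPoints.subalgebra R A G).val.toRingHom).codRestrict _ fun c g =>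
    show g • algebraMap A B (c : A) = algebraMap A B (c : A) by rw [← hGeq, c.2 g]

/-- The inertia of every field-valued point is preserved. -/
def StabPres : Prop :=
  ∀ (K : Type u) [Field K] (g : G) (p : B →+* K),
    (∀ a, p (algebraMap A B (g • a)) = p (algebraMap A B a)) → ∀ b, p (g • b) = p b

variable {R A B G}

/-- Homomorphisms to algebraically closed fields extend along injective integral extensions. -/
theorem exists_algClosed_lift {D B : Type u} [CommRing D] [CommRing B] [Algebra D B] [Algebra.IsIntegral D B]
    (hinj : Function.Injective (algebraMap D B)) {Ω : Type u} [Field Ω] [IsAlgClosed Ω] (d : D →+* Ω) :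
    ∃ p : B →+* Ω, p.comp (algebraMap D B) = d := by
  let q := RingHom.ker d
  haveI : q.IsPrime := RingHom.ker_isPrime d
  obtain ⟨Q, -, hQ, hQq⟩ := Ideal.exists_ideal_over_prime_of_isIntegral q (⊥ : Ideal B) (fun z hz => by
    rw [Ideal.mem_comap, Ideal.mem_bot, ← map_zero (algebraMap D B)] at hz
    rw [hinj hz]
    exact zero_mem q)
  haveI := hQ
  haveI : Q.LiesOver q := ⟨hQq.symm⟩
  let k : q.ResidueField →+* Ω := Ideal.ResidueField.lift q d (fun _ hz => hz)
    (fun z hz => isUnit_iff_ne_zero.2 fun h => hz h)
  letI : Algebra q.ResidueField Ω := k.toAlgebra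
  letI := Localization.AtPrime.algebraOfLiesOver q Q
  haveI : Algebra.IsAlgebraic q.ResidueField Q.ResidueField := inferInstance
  let l : Q.ResidueField →ₐ[q.ResidueField] Ω := IsAlgClosed.lift
  refine ⟨l.toRingHom.comp (algebraMap B Q.ResidueField), RingHom.ext fun z => ?_⟩
  show l (algebraMap B Q.ResidueField (algebraMap D B z)) = d z
  rw [← IsScalarTower.algebraMap_apply, IsScalarTower.algebraMap_apply D q.ResidueField Q.ResidueField,
    AlgHom.commutes]
  exact Ideal.ResidueField.lift_algebraMap ..

theorem inertia_eq (hGeq : ∀ (g : G) (a : A), algebraMap A B (g • a) = g • algebraMap A B a)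
    (hstab : StabPres A B G) (x : Ideal B) [x.IsPrime] :
    x.inertia G = (x.comap (algebraMap A B)).inertia G := by
  ext g
  constructor
  · intro hg a
    show algebraMap A B (g • a - a) ∈ x
    rw [map_sub, hGeq]
    exact hg (algebraMap A B a)
  · intro hg b
    show g • b - b ∈ x
    have h := hstab x.ResidueField g (algebraMap B x.ResidueField) fun a => by
      rw [← sub_eq_zero, ← map_sub, ← map_sub, Ideal.algebraMap_residueField_eq_zero]
      exact hg a
    rw [← Ideal.algebraMap_residueField_eq_zero, map_sub, sub_eq_zero]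
    exact h b

theorem etale_fixedMap [Algebra.Etale A B]
    [Algebra (FixedPoints.subalgebra R A G) (FixedPoints.subalgebra R B G)]
    [IsScalarTower (FixedPoints.subalgebra R A G) (FixedPoints.subalgebra R B G) B]
    (hGeq : ∀ (g : G) (a : A), algebraMap A B (g • a) = g • algebraMap A B a) (hstab : StabPres A B G) :
    Algebra.Etale (FixedPoints.subalgebra R A G) (FixedPoints.subalgebra R B G) :=
  FinGrp34.etale_fixed R B A G hGeq fun x hx =>
    ⟨inferInstanceAs (Algebra.FormallyEtale A (Localization.AtPrime x)), inertia_eq hGeq hstab x⟩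

/-- The comparison map from the base change of the invariants. -/
def bcMap [Algebra (FixedPoints.subalgebra R A G) (FixedPoints.subalgebra R B G)]
    [IsScalarTower (FixedPoints.subalgebra R A G) (FixedPoints.subalgebra R B G) B] :
    A ⊗[FixedPoints.subalgebra R A G] FixedPoints.subalgebra R B G →ₐ[A] B :=
  Algebra.TensorProduct.lift (Algebra.ofId A B)
    (IsScalarTower.toAlgHom (FixedPoints.subalgebra R A G) (FixedPoints.subalgebra R B G) B)
    fun _ _ => .all _ _

set_option synthInstance.maxHeartbeats 400000 in
set_option maxHeartbeats 1000000 in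
theorem bijective_bcMap [Algebra.Etale A B]
    [Algebra (FixedPoints.subalgebra R A G) (FixedPoints.subalgebra R B G)]
    [IsScalarTower (FixedPoints.subalgebra R A G) (FixedPoints.subalgebra R B G) B]
    (hGeq : ∀ (g : G) (a : A), algebraMap A B (g • a) = g • algebraMap A B a) (hstab : StabPres A B G) :
    Function.Bijective (bcMap (R := R) (A := A) (B := B) (G := G)) := by
  let C := FixedPoints.subalgebra R A G
  let D := FixedPoints.subalgebra R B G
  let T := A ⊗[C] D
  let θ : T →ₐ[A] B := bcMap
  haveI : Algebra.Etale C D := etale_fixedMap hGeq hstab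
  letI : Algebra T B := θ.toRingHom.toAlgebra
  haveI : IsScalarTower A T B := IsScalarTower.of_algebraMap_eq fun a => (θ.commutes a).symm
  haveI : Algebra.Etale T B := Algebra.Etale.of_restrictScalars (R := A) (A := T) (B := B)
  let φ : CommRingCat.of T ⟶ CommRingCat.of B := CommRingCat.ofHom θ.toRingHom
  haveI : Etale (Spec.map φ) := HasRingHomProperty.Spec_iff.mpr
    (show RingHom.Etale (algebraMap T B) from RingHom.etale_algebraMap.2 ‹_›)
  have hθl : ∀ a : A, θ (a ⊗ₜ 1) = algebraMap A B a := fun a =>
    (Algebra.TensorProduct.lift_tmul _ _ _ a 1).trans (by rw [map_one, _root_.mul_one]; rfl)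
  have hθr : ∀ d : D, θ (1 ⊗ₜ d) = (d : B) := fun d =>
    (Algebra.TensorProduct.lift_tmul _ _ _ 1 d).trans (by rw [map_one, _root_.one_mul]; rfl)
  haveI : UniversallyInjective (Spec.map φ) := by
    refine ((tfae_universallyInjective (Spec.map φ)).out 0 1).2 ?_
    intro K hK s t hst
    obtain ⟨p, rfl⟩ := Spec.map_surjective s
    obtain ⟨q, rfl⟩ := Spec.map_surjective t
    simp only [← Spec.map_comp] at hst
    have hpq := Spec.map_injective hst
    have hz : ∀ z : T, p.hom (θ z) = q.hom (θ z) := fun z =>
      congrArg (fun k : CommRingCat.of T ⟶ CommRingCat.of K => k.hom z) hpq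
    obtain ⟨g, hg⟩ := Fam20.exists_smul_eq_hom (G := G) p.hom q.hom fun b hb => by
      have h1 := hz (1 ⊗ₜ (⟨b, hb⟩ : D))
      rwa [hθr] at h1
    congr 1
    refine CommRingCat.hom_ext (RingHom.ext fun b => ?_)
    rw [hg b]
    refine (hstab K g p.hom (fun a => ?_) b).symm
    have h1 := hz (a ⊗ₜ 1)
    rw [hθl, hg] at h1
    rw [hGeq]
    exact h1.symm
  haveI : Surjective (Spec.map φ) := by
    refine ⟨fun P => ?_⟩
    let Ω := AlgebraicClosure P.asIdeal.ResidueField
    let s : T →+* Ω := (algebraMap P.asIdeal.ResidueField Ω).comp (algebraMap T P.asIdeal.ResidueField)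
    let d : D →+* Ω := s.comp (Algebra.TensorProduct.includeRight : D →ₐ[C] T).toRingHom
    let sa : A →+* Ω := s.comp (algebraMap A T)
    haveI := FinGrp34.fixed_isInvariant R B G
    haveI := FinGrp34.fixed_smulComm R B G
    haveI : Algebra.IsIntegral D B := Algebra.IsInvariant.isIntegral _ _ G
    obtain ⟨p, hp⟩ := exists_algClosed_lift (Subtype.val_injective : Function.Injective (algebraMap D B)) d
    obtain ⟨g, hg⟩ := Fam20.exists_smul_eq_hom (G := G) (p.comp (algebraMap A B)) sa fun a ha => by
      show p (algebraMap A B a) = s (a ⊗ₜ 1)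
      have hc : (a ⊗ₜ[C] (1 : D)) = 1 ⊗ₜ (algebraMap C D ⟨a, ha⟩) := by
        rw [Algebra.algebraMap_eq_smul_one, TensorProduct.tmul_smul, TensorProduct.smul_tmul']
        congr 1
        exact (_root_.mul_one a).symm
      rw [hc]
      refine Eq.trans ?_ (RingHom.congr_fun hp (algebraMap C D ⟨a, ha⟩))
      show p _ = p (algebraMap D B (algebraMap C D ⟨a, ha⟩))
      rw [← IsScalarTower.algebraMap_apply]
      rfl
    refine ⟨⟨RingHom.ker (p.comp (MulSemiringAction.toRingHom G B g)), RingHom.ker_isPrime _⟩,
      PrimeSpectrum.ext ?_⟩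
    have hs : (p.comp (MulSemiringAction.toRingHom G B g)).comp θ.toRingHom = s := by
      refine RingHom.ext fun z => ?_
      induction z using TensorProduct.induction_on with
      | zero => simp
      | add x y hx hy => simp only [map_add, hx, hy]
      | tmul a e =>
        have hae : a ⊗ₜ[C] e = (a ⊗ₜ 1) * (1 ⊗ₜ e) := by simp
        rw [hae, map_mul, map_mul]
        congr 1
        · show p (g • θ (a ⊗ₜ 1)) = s (a ⊗ₜ 1)
          rw [hθl, ← hGeq]
          exact (hg a).symm
        · show p (g • θ (1 ⊗ₜ e)) = s (1 ⊗ₜ e)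
          rw [hθr, e.2 g]
          exact RingHom.congr_fun hp e
    show Ideal.comap θ.toRingHom (RingHom.ker _) = P.asIdeal
    rw [RingHom.comap_ker, hs]
    ext z
    rw [RingHom.mem_ker]
    exact (map_eq_zero_iff _ (RingHom.injective (algebraMap P.asIdeal.ResidueField Ω))).trans
      Ideal.algebraMap_residueField_eq_zero
  haveI : IsOpenImmersion (Spec.map φ) := Sga84.isOpenImmersion_of_etale _
  haveI : IsIso (Spec.map φ) := (isIso_iff_isOpenImmersion_and_surjective _).mpr ⟨‹_›, ‹_›⟩
  haveI : IsIso φ := by
    have : IsIso (Scheme.Spec.map φ.op) := ‹IsIso (Spec.map φ)›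
    have := isIso_of_reflects_iso φ.op Scheme.Spec
    exact isIso_of_op φ
  exact ConcreteCategory.bijective_of_isIso φ

end Groth.Agent.ConstQuot97
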