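import Groth.Agent.ConstQuot97.Descent
import Groth.Agent.FinGrp34.BaseChangeAct

/-!
Functions invariant under a finite group on a flat base change of the quotient map.
-/

set_option autoImplicit false
set_option maxHeartbeats 1000000
set_option backward.isDefEq.respectTransparency false
set_option backward.isDefEq.respectTransparency.types false
universe u

open CategoryTheory CategoryTheory.Limits AlgebraicGeometry Opposite TopologicalSpace TensorProduct

noncomputable section

namespace Groth.Agent.ConstQuot97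

variable {R : Type u} [CommRing R] {A : Type u} [CommRing A] [Algebra R A]
variable {G : Type u} [Group G] [Finite G] [MulSemiringAction G A] [SMulCommClass G R A]

theorem exists_of_invariant_Spec {E' : CommRingCat.{u}} (φ : CommRingCat.of (ConstAct.inv R A G) ⟶ E')
    (hφ : φ.hom.Flat) {P : Scheme.{u}} (pE : P ⟶ Spec E') (pX : P ⟶ Spec (CommRingCat.of A))
    (hP : IsPullback pE pX (Spec.map φ) (ConstAct.quot R A G).left) (σ : G → (P ⟶ P))
    (hσE : ∀ g, σ g ≫ pE = pE) (hσX : ∀ g, σ g ≫ pX = pX ≫ (ConstAct.act R A G g).left)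
    (f : Γ(P, ⊤)) (hf : ∀ g, (σ g).appTop f = f) : ∃ r, pE.appTop r = f := by
  classical
  let C := ConstAct.inv R A G
  letI : Algebra C E' := φ.hom.toAlgebra
  haveI : Module.Flat C E' := hφ
  haveI := FinGrp34.fixed_smulComm R A G
  let T := E' ⊗[C] A
  let iE : E' ⟶ CommRingCat.of T := CommRingCat.ofHom (Algebra.TensorProduct.includeLeftRingHom)
  let iA : CommRingCat.of A ⟶ CommRingCat.of T :=
    CommRingCat.ofHom (Algebra.TensorProduct.includeRight : A →ₐ[C] T).toRingHom
  have hq : IsPullback (Spec.map iE) (Spec.map iA) (Spec.map φ) (ConstAct.quot R A G).left :=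
    isPullback_SpecMap_of_isPushout _ _ _ _ (CommRingCat.isPushout_tensorProduct C E' A)
  let e : Spec (CommRingCat.of T) ≅ P := hq.isoIsPullback _ _ hP
  have heE : e.hom ≫ pE = Spec.map iE := hq.isoIsPullback_hom_fst _ _ hP
  have heX : e.hom ≫ pX = Spec.map iA := hq.isoIsPullback_hom_snd _ _ hP
  let τ : G → (CommRingCat.of T ⟶ CommRingCat.of T) := fun g =>
    CommRingCat.ofHom (Algebra.TensorProduct.map (AlgHom.id E' E') (MulSemiringAction.toAlgHom C A g)).toRingHom
  have hτ : ∀ g, Spec.map (τ g) ≫ e.hom = e.hom ≫ σ g := fun g => by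
    apply hP.hom_ext
    · rw [Category.assoc, Category.assoc, hσE, heE, ← Spec.map_comp]
      congr 1
      refine CommRingCat.hom_ext (RingHom.ext fun a => ?_)
      show Algebra.TensorProduct.map (AlgHom.id E' E') (MulSemiringAction.toAlgHom C A g) (a ⊗ₜ (1 : A)) = a ⊗ₜ 1
      simp
    · rw [Category.assoc, Category.assoc, hσX, ← Category.assoc e.hom, heX, ConstAct.act_left, ← Spec.map_comp,
        ← Spec.map_comp]
      congr 1
  let ΓT := Scheme.ΓSpecIso (CommRingCat.of T)
  let z : T := ΓT.hom.hom (e.hom.appTop f)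
  have hz : ∀ g : G, (FinGrp34.bcAct C E' A G).toSMul.smul g z = z := fun g => by
    have h1 := congrArg (fun m : Spec (CommRingCat.of T) ⟶ P => m.appTop f) (hτ g)
    simp only [Scheme.Hom.comp_appTop, CommRingCat.comp_apply, hf] at h1
    have h2 := congrArg (fun k => k.hom (e.hom.appTop f)) (Scheme.ΓSpecIso_naturality (τ g))
    simp only [CommRingCat.hom_comp, RingHom.comp_apply] at h2
    show (τ g).hom (ΓT.hom.hom (e.hom.appTop f)) = z
    refine h2.symm.trans ?_
    exact congrArg ΓT.hom.hom h1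
  obtain ⟨w, hw⟩ := FinGrp34.exists_of_fixed C E' A G C (IsScalarTower.toAlgHom C C A)
    (fun m hm => ⟨⟨m, hm⟩, rfl⟩) z hz
  let b : E' := Algebra.TensorProduct.rid C E' E' w
  have hgen : ∀ w' : E' ⊗[C] C,
      Algebra.TensorProduct.map (AlgHom.id E' E') (IsScalarTower.toAlgHom C C A) w' =
        Algebra.TensorProduct.rid C E' E' w' ⊗ₜ (1 : A) := by
    intro w'
    induction w' using TensorProduct.induction_on with
    | zero => simp
    | tmul x y =>
      show x ⊗ₜ (algebraMap C A y) = (Algebra.TensorProduct.rid C E' E' (x ⊗ₜ y)) ⊗ₜ (1 : A)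
      rw [Algebra.TensorProduct.rid_tmul, TensorProduct.smul_tmul, Algebra.smul_def, _root_.mul_one]
    | add x y hx hy => rw [map_add, map_add, hx, hy, TensorProduct.add_tmul]
  have hb : z = b ⊗ₜ (1 : A) := hw.symm.trans (hgen w)
  refine ⟨(Scheme.ΓSpecIso E').inv.hom b, ?_⟩
  have hinj : Function.Injective e.hom.appTop := by
    intro p q hpq
    have h0 : e.inv.appTop (e.hom.appTop p) = e.inv.appTop (e.hom.appTop q) := congrArg _ hpq
    rwa [← CommRingCat.comp_apply, ← CommRingCat.comp_apply, ← Scheme.Hom.comp_appTop, e.inv_hom_id] at h0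
  apply hinj
  rw [← CommRingCat.comp_apply, ← Scheme.Hom.comp_appTop, heE]
  have h3 := congrArg (fun k => k.hom ((Scheme.ΓSpecIso E').inv.hom b)) (Scheme.ΓSpecIso_naturality iE)
  simp only [CommRingCat.hom_comp, RingHom.comp_apply] at h3
  refine ΓT.commRingCatIsoToRingEquiv.injective (h3.trans ?_)
  show iE.hom ((Scheme.ΓSpecIso E').hom.hom ((Scheme.ΓSpecIso E').inv.hom b)) = z
  rw [hb, ← RingHom.comp_apply (Scheme.ΓSpecIso E').hom.hom, ← CommRingCat.hom_comp, Iso.inv_hom_id]
  rfl

/-- Invariant functions on a flat base change of the quotient map descend. -/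
theorem exists_of_invariant {W : Scheme.{u}} (v : W ⟶ (ConstAct.specInv R A G).left) [Flat v] {P : Scheme.{u}}
    (pE : P ⟶ W) (pX : P ⟶ Spec (CommRingCat.of A)) (hP : IsPullback pE pX v (ConstAct.quot R A G).left)
    (σ : G → (P ⟶ P)) (hσE : ∀ g, σ g ≫ pE = pE) (hσX : ∀ g, σ g ≫ pX = pX ≫ (ConstAct.act R A G g).left)
    (f : Γ(P, ⊤)) (hf : ∀ g, (σ g).appTop f = f) : ∃ r, pE.appTop r = f := by
  classical
  have := isIntegralHom_quot (R := R) (A := A) (G := G)
  have := dominant_quot (R := R) (A := A) (G := G)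
  have : QuasiCompact pE := MorphismProperty.of_isPullback hP.flip (inferInstanceAs (QuasiCompact (ConstAct.quot R A G).left))
  have : IsSchemeTheoreticallyDominant pE := IsSchemeTheoreticallyDominant.of_isPullback hP.flip
  -- descent over each affine open
  have hloc : ∀ U : W.affineOpens, ∃ r : Γ(W, U.1), pE.app U.1 r = P.presheaf.map (homOfLE le_top).op f := by
    intro U
    have : IsAffine U.1.toScheme := U.2
    obtain ⟨φ, hφ⟩ := Spec.map_surjective (R := CommRingCat.of (ConstAct.inv R A G))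
      (U.1.toScheme.isoSpec.inv ≫ U.1.ι ≫ v)
    have hflat : Flat (Spec.map φ) := by rw [hφ]; infer_instance
    let V := pE ⁻¹ᵁ U.1
    let σV : G → (V.toScheme ⟶ V.toScheme) := fun g => (σ g).resLE V V
      (by rw [← Scheme.Hom.comp_preimage, hσE])
    have hσι : ∀ g, σV g ≫ V.ι = V.ι ≫ σ g := fun g => Scheme.Hom.resLE_comp_ι _ _
    have sq : IsPullback ((pE ∣_ U.1) ≫ U.1.toScheme.isoSpec.hom) (V.ι ≫ pX) (Spec.map φ) (ConstAct.quot R A G).left := by
      refine ((isPullback_morphismRestrict pE U.1).flip.paste_horiz hP.flip |>.flip).of_iso (Iso.refl _)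
        U.1.toScheme.isoSpec (Iso.refl _) (Iso.refl _) ?_ ?_ ?_ ?_ <;> simp [hφ, V]
    obtain ⟨r, hr⟩ := exists_of_invariant_Spec φ (HasRingHomProperty.Spec_iff.1 hflat) _ _ sq σV
      (fun g => by
        rw [← Category.assoc]
        congr 1
        rw [← cancel_mono U.1.ι, Category.assoc, morphismRestrict_ι, ← Category.assoc, hσι, Category.assoc, hσE])
      (fun g => by rw [← Category.assoc, hσι, Category.assoc, hσX, Category.assoc])
      (V.ι.appTop f) (fun g => by
        rw [← CommRingCat.comp_apply, ← Scheme.Hom.comp_appTop, hσι, Scheme.Hom.comp_appTop, CommRingCat.comp_apply,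
          hf])
    rw [Scheme.Hom.comp_appTop, CommRingCat.comp_apply] at hr
    refine ⟨U.1.topIso.hom.hom (U.1.toScheme.isoSpec.hom.appTop r), ?_⟩
    have key1 : (pE ∣_ U.1).appTop ≫ V.topIso.hom = U.1.topIso.hom ≫ pE.app U.1 := by
      rw [morphismRestrict_appTop, Scheme.Opens.topIso_hom, Scheme.Opens.topIso_hom]
      simp only [V, Scheme.Hom.app_eq_appLE, Category.assoc, ← Functor.map_comp, Scheme.Hom.appLE_map,
        Scheme.Hom.map_appLE]
    have key2 : V.ι.appTop ≫ V.topIso.hom = P.presheaf.map (homOfLE le_top).op := by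
      rw [Scheme.Opens.ι_appTop, Scheme.Opens.topIso_hom, ← Functor.map_comp]
      congr 1
    rw [← CommRingCat.comp_apply U.1.topIso.hom, ← key1, CommRingCat.comp_apply, hr, ← key2,
      CommRingCat.comp_apply]
  choose r hr using hloc
  have hinjApp : ∀ O : W.Opens, Function.Injective (pE.app O) := fun O => pE.app_injective O
  let F := W.sheaf
  have hUcov : (⊤ : W.Opens) ≤ ⨆ U : W.affineOpens, U.1 := by
    rw [W.isBasis_affineOpens.isOpenCover.iSup_eq_top]
  have hcompat : TopCat.Presheaf.IsCompatible W.presheaf (fun U : W.affineOpens => U.1) r := by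
    intro U U'
    apply hinjApp
    have h : ∀ (U₀ : W.affineOpens) (O : W.Opens) (le : O ≤ U₀.1),
        pE.app O (W.presheaf.map (homOfLE le).op (r U₀)) = P.presheaf.map (homOfLE le_top).op f := by
      intro U₀ O le
      rw [← CommRingCat.comp_apply, Scheme.Hom.naturality, CommRingCat.comp_apply, hr,
        ← CommRingCat.comp_apply, ← Functor.map_comp]
      rfl
    exact (h U _ inf_le_left).trans (h U' _ inf_le_right).symm
  obtain ⟨s, hs, -⟩ := F.existsUnique_gluing' (fun U : W.affineOpens => U.1) ⊤ (fun U => homOfLE le_top) hUcov r hcompat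
  refine ⟨s, ?_⟩
  refine TopCat.Sheaf.eq_of_locally_eq' P.sheaf (fun U : W.affineOpens => pE ⁻¹ᵁ U.1) ⊤
    (fun U => homOfLE le_top) ?_ _ _ fun U => ?_
  · intro x _
    obtain ⟨U, hU, hxU, -⟩ := exists_isAffineOpen_mem_and_subset (x := pE x) (U := ⊤) trivial
    exact Opens.mem_iSup.2 ⟨⟨U, hU⟩, hxU⟩
  · show P.presheaf.map _ (pE.app ⊤ s) = P.presheaf.map _ f
    rw [← hr U]
    refine Eq.trans ?_ (congrArg _ (hs U))
    exact congrArg (fun k => k.hom s) (pE.naturality (homOfLE (le_top : U.1 ≤ ⊤)).op).symm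

end Groth.Agent.ConstQuot97
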