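import Groth.Agent.ConstQuot97.Descent
import Groth.Prelude.Def_ConstAct2

/-!
The quotient map of a finite group action: invariance for the constant group scheme, geometric
orbits and the universal property for maps to algebraic spaces.
-/

set_option autoImplicit false
set_option backward.isDefEq.respectTransparency false
set_option backward.isDefEq.respectTransparency.types false
universe u

open CategoryTheory MonoidalCategory CartesianMonoidalCategory AlgebraicGeometry Opposite TensorProduct

noncomputable section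

local instance braidedAlgSpecOf (R : Type u) [CommRing R] : (algSpec (CommRingCat.of R)).Braided :=
  braidedAlgSpec

namespace Groth.Agent.ConstQuot97

variable {R : Type u} [CommRing R] {A : Type u} [CommRing A] [Algebra R A]

/-- Points of an affine scheme over `Spec R` with affine source are algebra maps. -/
theorem exists_pt_eq {K B : Type u} [CommRing K] [Algebra R K] [CommRing B] [Algebra R B]
    (x : CoactBr.sp R K ⟶ CoactBr.sp R B) : ∃ φ : B →ₐ[R] K, CoactBr.pt φ = x := by
  obtain ⟨φ, hφ⟩ := Spec.map_surjective x.left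
  have h : CommRingCat.ofHom (algebraMap R B) ≫ φ = CommRingCat.ofHom (algebraMap R K) :=
    Spec.map_injective (by rw [Spec.map_comp, hφ]; exact Over.w x)
  exact ⟨⟨φ.hom, fun r => congrArg (fun k : CommRingCat.of R ⟶ CommRingCat.of K => k.hom r) h⟩,
    Over.OverMorphism.ext hφ⟩

variable {G : Type u} [Group G] [Fintype G] [DecidableEq G] [MulSemiringAction G A] [SMulCommClass G R A]

theorem quot_eq_pt : (ConstAct.quot R A G : CoactBr.sp R A ⟶ _) =
    CoactBr.pt (R := R) (ConstAct.inv R A G).val :=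
  Over.OverMorphism.ext rfl

/-- The tautological point of `G × Spec A`. -/
theorem isIso_univPt : IsIso
    (lift (CoactBr.pt (R := R) (Algebra.TensorProduct.includeRight : ConstGrp.F R G →ₐ[R] A ⊗[R] ConstGrp.F R G))
      (CoactBr.pt (R := R) (Algebra.TensorProduct.includeLeft : A →ₐ[R] A ⊗[R] ConstGrp.F R G))) := by
  have h := CoactBr.lift_pt_pt (R := R) (Algebra.TensorProduct.includeLeft : A →ₐ[R] A ⊗[R] ConstGrp.F R G)
    (Algebra.TensorProduct.includeRight : ConstGrp.F R G →ₐ[R] A ⊗[R] ConstGrp.F R G)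
  rw [show Algebra.TensorProduct.lift (Algebra.TensorProduct.includeLeft : A →ₐ[R] A ⊗[R] ConstGrp.F R G)
      Algebra.TensorProduct.includeRight (fun _ _ => .all _ _) = AlgHom.id R _ from
    Algebra.TensorProduct.ext' fun a f => by simp] at h
  have h1 : IsIso (lift
      (CoactBr.pt (R := R) (Algebra.TensorProduct.includeLeft : A →ₐ[R] A ⊗[R] ConstGrp.F R G))
      (CoactBr.pt (R := R) (Algebra.TensorProduct.includeRight : ConstGrp.F R G →ₐ[R] A ⊗[R] ConstGrp.F R G))) := by
    refine ⟨Functor.LaxMonoidal.μ (algSpec (CommRingCat.of R)) (op (CommAlgCat.of R A))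
      (op (CommAlgCat.of R (ConstGrp.F R G))), h.trans CoactBr.pt_id, ?_⟩
    rw [← cancel_mono (Functor.LaxMonoidal.μ (algSpec (CommRingCat.of R)) (op (CommAlgCat.of R A))
      (op (CommAlgCat.of R (ConstGrp.F R G)))), Category.assoc, h, CoactBr.pt_id]
    exact (Category.comp_id _).trans (Category.id_comp _).symm
  have e := lift_braiding_hom
    (CoactBr.pt (R := R) (Algebra.TensorProduct.includeLeft : A →ₐ[R] A ⊗[R] ConstGrp.F R G))
    (CoactBr.pt (R := R) (Algebra.TensorProduct.includeRight : ConstGrp.F R G →ₐ[R] A ⊗[R] ConstGrp.F R G))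
  rw [← e]
  infer_instance

theorem gaction_quot :
    (ConstAct.gaction R A G).act ≫ ConstAct.quot R A G = snd _ _ ≫ ConstAct.quot R A G := by
  letI := ConstAct.comod R A G
  haveI := ConstAct.isCoactAlg R A G
  have := isIso_univPt (R := R) (A := A) (G := G)
  rw [← cancel_epi (lift (CoactBr.pt (R := R) (Algebra.TensorProduct.includeRight : ConstGrp.F R G →ₐ[R] A ⊗[R] ConstGrp.F R G))
    (CoactBr.pt (R := R) (Algebra.TensorProduct.includeLeft : A →ₐ[R] A ⊗[R] ConstGrp.F R G)))]
  erw [lift_snd_assoc]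
  rw [← Category.assoc, ConstAct.gaction_eq, CoactBr.lift_pt_action_act, quot_eq_pt,
    ← CoactBr.pt_comp, ← CoactBr.pt_comp]
  congr 1
  refine AlgHom.ext fun c => ?_
  show Algebra.TensorProduct.lift _ _ (fun _ _ => .all _ _) (ConstAct.coactLin R A G (c : A)) =
    (c : A) ⊗ₜ (1 : ConstGrp.F R G)
  rw [ConstAct.coactLin_apply]
  simp only [c.2 _]
  rw [← TensorProduct.tmul_sum, ConstGrp.sum_e, Algebra.TensorProduct.lift_tmul, map_one, _root_.mul_one]
  rfl

/-- Invariance for the constant group scheme gives invariance for every element. -/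
theorem act_comp_of_gaction {N : AlgSp.Sp (Spec (CommRingCat.of R))}
    (ψ : (AlgSp.yon _).obj (ConstAct.X R A) ⟶ N)
    (h : (AlgSp.yon _).map (ConstAct.gaction R A G).act ≫ ψ = (AlgSp.yon _).map (snd _ _) ≫ ψ) (g : G) :
    (AlgSp.yon _).map (ConstAct.act R A G g) ≫ ψ = ψ := by
  have h1 := congrArg (fun k => (AlgSp.yon _).map
    (lift (CoactBr.pt (R := R) (ConstAct.constPt R G (K := A) g⁻¹)) (CoactBr.pt (R := R) (AlgHom.id R A))) ≫ k) h
  simp only [← Category.assoc, ← Functor.map_comp] at h1
  rw [ConstAct.gaction_constPt, lift_snd, CoactBr.pt_id, Category.id_comp, inv_inv,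
    CategoryTheory.Functor.map_id, Category.id_comp] at h1
  exact h1

/-- Geometric points over the same invariants differ by a constant point. -/
theorem exists_smul_eq_algHom {Ω : Type u} [CommRing Ω] [IsDomain Ω] [Algebra R Ω] (x x' : A →ₐ[R] Ω)
    (h : x.comp (ConstAct.inv R A G).val = x'.comp (ConstAct.inv R A G).val) :
    ∃ g : G, x' = x.comp (MulSemiringAction.toAlgEquiv R A g : A →ₐ[R] A) := by
  obtain ⟨g, hg⟩ := Fam20.exists_smul_eq_hom (G := G) x.toRingHom x'.toRingHom fun a ha =>
    congrArg (fun k : ConstAct.inv R A G →ₐ[R] Ω => k ⟨a, ha⟩) h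
  exact ⟨g, AlgHom.ext hg⟩

/-- Geometric points of the invariants lift. -/
theorem exists_lift_algHom {Ω : Type u} [Field Ω] [IsAlgClosed Ω] [Algebra R Ω]
    (y : ConstAct.inv R A G →ₐ[R] Ω) : ∃ x : A →ₐ[R] Ω, x.comp (ConstAct.inv R A G).val = y := by
  haveI := FinGrp34.fixed_isInvariant R A G
  haveI := FinGrp34.fixed_smulComm R A G
  haveI := Algebra.IsInvariant.isIntegral (ConstAct.inv R A G) A G
  obtain ⟨p, hp⟩ := exists_algClosed_lift (D := ConstAct.inv R A G) (B := A) Subtype.val_injective y.toRingHom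
  exact ⟨⟨p, fun r => (RingHom.congr_fun hp (algebraMap R _ r)).trans (y.commutes r)⟩,
    AlgHom.ext fun c => RingHom.congr_fun hp c⟩

/-- The geometric fibres of the quotient map are orbits. -/
theorem geomOrbits (Ω : Type u) [Field Ω] [IsAlgClosed Ω] (t : Spec (CommRingCat.of Ω) ⟶ Spec (CommRingCat.of R)) :
    (∀ y : Over.mk t ⟶ ConstAct.specInv R A G, ∃ x : Over.mk t ⟶ ConstAct.X R A, x ≫ ConstAct.quot R A G = y) ∧
      (∀ x x' : Over.mk t ⟶ ConstAct.X R A, x ≫ ConstAct.quot R A G = x' ≫ ConstAct.quot R A G →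
        ∃ g : Over.mk t ⟶ ConstAct.GR R G, lift g x' ≫ (ConstAct.gaction R A G).act = x) := by
  obtain ⟨φ, rfl⟩ := Spec.map_surjective t
  letI : Algebra R Ω := φ.hom.toAlgebra
  constructor
  · intro y
    obtain ⟨v, rfl⟩ := exists_pt_eq (R := R) (K := Ω) (B := ConstAct.inv R A G) y
    obtain ⟨p, rfl⟩ := exists_lift_algHom v
    exact ⟨CoactBr.pt p, (CoactBr.pt_comp _ _).symm⟩
  · intro x x' h
    obtain ⟨p, rfl⟩ := exists_pt_eq (R := R) (K := Ω) (B := A) x
    obtain ⟨p', rfl⟩ := exists_pt_eq (R := R) (K := Ω) (B := A) x'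
    rw [quot_eq_pt, ← CoactBr.pt_comp, ← CoactBr.pt_comp] at h
    obtain ⟨g, hg⟩ := exists_smul_eq_algHom p' p (CoactBr.pt_injective h).symm
    refine ⟨CoactBr.pt (R := R) (ConstAct.constPt R G (K := Ω) g⁻¹), ?_⟩
    rw [ConstAct.gaction_constPt, inv_inv, ← ConstAct.pt_comp_toAlgEquiv, hg]

omit [Group G] [DecidableEq G] in
theorem GR_props [Group G] [DecidableEq G] : IsAffineHom (ConstAct.GR R G).hom ∧ Flat (ConstAct.GR R G).hom ∧
    LocallyOfFinitePresentation (ConstAct.GR R G).hom := by
  haveI : Module.Finite R (ConstGrp.F R G) := Module.Finite.of_basis (ConstGrp.basis R G)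
  haveI : Module.Free R (ConstGrp.F R G) := Module.Free.of_basis (ConstGrp.basis R G)
  haveI : Algebra.FinitePresentation R (ConstGrp.F R G) :=
    (Module.FinitePresentation.iff_finitePresentation_of_finite (R := R) (S := ConstGrp.F R G)).1
      (Module.finitePresentation_of_projective R _)
  show IsAffineHom (Spec.map (CommRingCat.ofHom (algebraMap R (ConstGrp.F R G)))) ∧ Flat _ ∧
    LocallyOfFinitePresentation _
  refine ⟨inferInstance, HasRingHomProperty.Spec_iff.2 ?_, HasRingHomProperty.Spec_iff.2 ?_⟩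
  · exact RingHom.flat_algebraMap_iff.2 inferInstance
  · exact RingHom.finitePresentation_algebraMap.2 inferInstance

end Groth.Agent.ConstQuot97
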