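import Groth.Agent.SpPts86.DiagProps
import Mathlib.AlgebraicGeometry.ZariskisMainTheorem
import Mathlib.AlgebraicGeometry.Morphisms.Integral

/-!
An integral, surjective, schematically dominant morphism is an epimorphism for maps to algebraic spaces.
-/

set_option autoImplicit false
set_option backward.isDefEq.respectTransparency false
set_option backward.isDefEq.respectTransparency.types false
universe u

open CategoryTheory CategoryTheory.Limits AlgebraicGeometry Opposite
open AlgSp Groth.Agent.SpFP87

namespace Groth.Agent.ConstQuot97

variable {S : Scheme.{u}}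

/-- A monomorphism locally of finite type that receives an integral schematically dominant
morphism from an affine scheme compatibly is an isomorphism. -/
theorem isIso_of_mono_of_integral_factor {X W E : Scheme.{u}} (f : X ⟶ W) [IsIntegralHom f]
    [Surjective f] (hf : f.ker = ⊥) (e : E ⟶ W) [Mono e] [LocallyOfFiniteType e] (l : X ⟶ E)
    (hl : l ≫ e = f) : IsIso e := by
  have hsq : IsPullback l (𝟙 X) e f := by
    refine ⟨⟨by rw [hl, Category.id_comp]⟩, ⟨PullbackCone.IsLimit.mk _ (fun s => s.snd) (fun s => ?_)
      (fun s => Category.comp_id _) (fun s m _ h2 => by rw [← h2, Category.comp_id])⟩⟩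
    rw [← cancel_mono e, Category.assoc, hl, s.condition]
  have hsurjl : Surjective l := by
    have : Surjective (pullback.fst e f) := inferInstance
    rw [← hsq.isoPullback_hom_fst]
    infer_instance
  have : Surjective l := hsurjl
  have : UniversallyClosed (l ≫ e) := hl ▸ inferInstanceAs (UniversallyClosed f)
  have : UniversallyClosed e := UniversallyClosed.of_comp_surjective l e
  have : IsProper e := {}
  have : IsClosedImmersion e := (IsClosedImmersion.iff_isProper_and_mono (f := e)).2 ⟨‹_›, ‹_›⟩
  apply IsClosedImmersion.isIso_iff_ker_eq_bot.2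
  rw [eq_bot_iff, ← hf, ← hl]
  exact Scheme.Hom.le_ker_comp l e

/-- Two maps from an affine scheme to an algebraic space that agree after an integral, surjective,
schematically dominant morphism are equal. -/
theorem sp_hom_eq_of_integral {N : Sp S} (hN : IsAlgSpace N) {X W : Over S}
    (f : X ⟶ W) [IsIntegralHom f.left] [Surjective f.left] (hf : f.left.ker = ⊥)
    (a b : (yon S).obj W ⟶ N) (h : (yon S).map f ≫ a = (yon S).map f ≫ b) : a = b := by
  obtain ⟨V, e, k, sq⟩ := hN.diag (prod.lift a b)
  have hm : Mono e.left := (SpPts86.repWith_mono_diag hN).2 _ _ _ sq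
  have hlt : LocallyOfFiniteType e.left := (SpPts86.repWith_lft_diag hN).2 _ _ _ sq
  have w : ((yon S).map f ≫ a) ≫ Limits.diag N = (yon S).map f ≫ prod.lift a b := by
    apply Limits.prod.hom_ext <;> simp [h]
  obtain ⟨l, hl⟩ := (yon S).map_surjective (sq.lift _ _ w)
  have hle : l ≫ e = f := (yon S).map_injective (by rw [Functor.map_comp, hl, sq.lift_snd])
  have : IsIso e.left := isIso_of_mono_of_integral_factor f.left hf e.left l.left (by
    rw [← Over.comp_left, hle])
  have : IsIso ((Over.forget S).map e) := ‹IsIso e.left›
  have : IsIso e := isIso_of_reflects_iso e (Over.forget S)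
  have hk : k = (yon S).map e ≫ a := by simpa using congrArg (· ≫ prod.fst) sq.w
  have hk' : k = (yon S).map e ≫ b := by simpa using congrArg (· ≫ prod.snd) sq.w
  exact (cancel_epi ((yon S).map e)).1 (hk.symm.trans hk')

end Groth.Agent.ConstQuot97
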