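import Groth.Agent.AlgSt88.QuotCoarse
import Groth.Agent.SpPts86.CovSigma
import Groth.Agent.SpPts86.SchDense
import Groth.Prelude.Def_StMod2

/-!
Sections of the pushforward of the structure sheaf of a quotient stack.
-/

set_option autoImplicit false
set_option maxHeartbeats 1000000
set_option backward.isDefEq.respectTransparency false
set_option backward.isDefEq.respectTransparency.types false
universe u

open CategoryTheory CategoryTheory.Limits MonoidalCategory CartesianMonoidalCategory AlgebraicGeometry AlgSt Opposite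
open Groth.Agent.AlgSt88

noncomputable section

namespace Groth.Agent.ConstQuot97

variable {S : Scheme.{u}} {G X Y : Over S} [GrpObj G] {a : AlgGrp.Action G X} {f : X ⟶ Y}

/-- The arrow of `ofSch Y` under a morphism of schemes over `S`. -/
theorem baseOver_inj {π : QuotSt Scheme.fppfPrecoverage G a ⥤ᵇ ofSch Y}
    {ξ : (QuotSt Scheme.fppfPrecoverage G a).obj} {η : (ofSch Y).obj} {α β : π.obj ξ ⟶ η}
    (h : StMod.baseOver π ξ α = StMod.baseOver π ξ β) : α = β :=
  Stk.EltObj.hom_ext ((cancel_epi _).1 h)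

theorem baseOver_sec {π : QuotSt Scheme.fppfPrecoverage G a ⥤ᵇ ofSch Y}
    (hπ : BasedFunctor.comp (quotMap Scheme.fppfPrecoverage G a) π = ofSpMap ((AlgSp.yon S).map f))
    {T : Over S} (q : T ⟶ X) {η : (ofSch Y).obj}
    (α : π.obj ((quotMap Scheme.fppfPrecoverage G a).obj (ptObj q)) ⟶ η) :
    StMod.baseOver π _ α ≫ η.sec.down = q ≫ f := by
  have h : π.obj ((quotMap Scheme.fppfPrecoverage G a).obj (ptObj q)) = (ofSpMap ((AlgSp.yon S).map f)).obj (ptObj q) :=
    congrArg (fun F : ofSch X ⥤ᵇ ofSch Y => F.obj (ptObj q)) hπ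
  have key : ∀ (z : (ofSch Y).obj) (hz : z = ⟨T, ⟨q ≫ f⟩⟩) (m : z ⟶ η),
      (eqToHom (congrArg Stk.EltObj.base hz).symm ≫ m.hom) ≫ η.sec.down = q ≫ f := by
    intro z hz m
    subst hz
    have := congrArg ULift.down m.map_sec
    simp only [eqToHom_refl, Category.id_comp]
    exact this
  exact key _ (h.trans rfl) α

theorem exists_arrow {π : QuotSt Scheme.fppfPrecoverage G a ⥤ᵇ ofSch Y}
    (hπ : BasedFunctor.comp (quotMap Scheme.fppfPrecoverage G a) π = ofSpMap ((AlgSp.yon S).map f))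
    {T : Over S} (q : T ⟶ X) (η : (ofSch Y).obj) (b : T ⟶ η.base) (hb : b ≫ η.sec.down = q ≫ f) :
    ∃ α : π.obj ((quotMap Scheme.fppfPrecoverage G a).obj (ptObj q)) ⟶ η, StMod.baseOver π _ α = b := by
  have h : π.obj ((quotMap Scheme.fppfPrecoverage G a).obj (ptObj q)) = (ofSpMap ((AlgSp.yon S).map f)).obj (ptObj q) :=
    congrArg (fun F : ofSch X ⥤ᵇ ofSch Y => F.obj (ptObj q)) hπ
  have key : ∀ (z : (ofSch Y).obj) (hz : z = ⟨T, ⟨q ≫ f⟩⟩),
      ∃ m : z ⟶ η, eqToHom (congrArg Stk.EltObj.base hz).symm ≫ m.hom = b := by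
    intro z hz
    subst hz
    exact ⟨⟨b, congrArg ULift.up hb⟩, by simp⟩
  exact key _ (h.trans rfl)

variable [Flat G.hom] [LocallyOfFinitePresentation G.hom]

/-- A family of sections of the pushforward of the structure sheaf is determined on the trivial torsors. -/
theorem val_ext {π : QuotSt Scheme.fppfPrecoverage G a ⥤ᵇ ofSch Y} {η : (ofSch Y).obj}
    (s t : (StMod.O (QuotSt Scheme.fppfPrecoverage G a)).RelSect π η)
    (h : ∀ (T : Over S) (q : T ⟶ X) (α : π.obj ((quotMap Scheme.fppfPrecoverage G a).obj (ptObj q)) ⟶ η),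
      s.1 _ α = t.1 _ α) : s = t := by
  refine StMod.Mod.RelSect.ext _ _ _ fun ξ α => ?_
  obtain ⟨Rc, hRc, hcov⟩ := exists_triv_hom a ξ
  have hsur : ∀ z : ↥ξ.base.left, ∃ (T' : Scheme.{u}) (g : T' ⟶ ξ.base.left), Rc g ∧ z ∈ Set.range g := fun z => by
    have : Scheme.JointlySurjective Scheme.fppfPrecoverage.{u} :=
      inferInstanceAs (Scheme.JointlySurjective (Scheme.precoverage _))
    obtain ⟨T', g, hg, hz⟩ := Scheme.JointlySurjective.exists_eq Rc hRc z
    exact ⟨T', g, hg, hz⟩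
  choose T' g hg hz using hsur
  choose q m hm using fun z => hcov (g z) (hg z)
  let V : ↥ξ.base.left → Over S := fun z => Over.mk (g z ≫ ξ.base.hom)
  let c : ∀ z, V z ⟶ ξ.base := fun z => Over.homMk (g z) rfl
  have hprop : ∀ z, Flat (c z).left ∧ LocallyOfFinitePresentation (c z).left := fun z => hRc.2 (hg z)
  have hC := SpPts86.fppfSurj_sigmaOut c hprop (fun z => ⟨z, hz z⟩)
  obtain ⟨_, _, _⟩ := (SpFP87.fppfSurj_iff _).1 hC
  refine SpPts86.app_injective_of_flat_surjective (SpPts86.sigmaOut c).left ⊤ ?_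
  refine (sigmaOpenCover (fun z => (V z).left)).ext_elem _ _ fun z => ?_
  change (Sigma.ι (fun z => (V z).left) z).appTop ((SpPts86.sigmaOut c).left.appTop (s.1 ξ α)) =
    (Sigma.ι (fun z => (V z).left) z).appTop ((SpPts86.sigmaOut c).left.appTop (t.1 ξ α))
  have hc : Sigma.ι (fun z => (V z).left) z ≫ (SpPts86.sigmaOut c).left =
      StMod.bmap (QuotSt Scheme.fppfPrecoverage G a) (m z) :=
    (Sigma.ι_desc _ _).trans (congrArg CommaMorphism.left (hm z)).symm
  have key : ∀ x : Γ(ξ.base.left, ⊤), (Sigma.ι (fun z => (V z).left) z).appTop ((SpPts86.sigmaOut c).left.appTop x) =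
      (StMod.bmap (QuotSt Scheme.fppfPrecoverage G a) (m z)).appTop x := fun x =>
    congrArg (fun k : (V z).left ⟶ ξ.base.left => k.appTop x) hc
  refine (key _).trans (Eq.trans ?_ (key _).symm)
  exact (s.2 (m z) α).trans ((h _ _ _).trans (t.2 (m z) α).symm)

/-- Compatibility of the values on trivial torsors. -/
theorem val_compat {π : QuotSt Scheme.fppfPrecoverage G a ⥤ᵇ ofSch Y} {η : (ofSch Y).obj}
    (s : (StMod.O (QuotSt Scheme.fppfPrecoverage G a)).RelSect π η) {T T' : Over S} (k : T' ⟶ T) (g : T' ⟶ G)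
    (q : T ⟶ X) (q' : T' ⟶ X) (hq : lift g (k ≫ q) ≫ a.act = q')
    (α : π.obj ((quotMap Scheme.fppfPrecoverage G a).obj (ptObj q)) ⟶ η)
    (α' : π.obj ((quotMap Scheme.fppfPrecoverage G a).obj (ptObj q')) ⟶ η)
    (hα : StMod.baseOver π _ α' = k ≫ StMod.baseOver π _ α) :
    k.left.appTop (show Γ(T.left, ⊤) from s.1 _ α) = (show Γ(T'.left, ⊤) from s.1 _ α') := by
  obtain ⟨φ, hφ, -⟩ := (exists_quot_hom_over a k q' q).2 g hq
  have hα' : α' = π.map φ ≫ α := baseOver_inj (by
    rw [hα, ← StMod.map_comp_baseOver]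
    exact congrArg (· ≫ StMod.baseOver π _ α) hφ.symm)
  rw [hα']
  refine Eq.trans ?_ (s.2 φ α)
  exact congrArg (fun j : T'.left ⟶ T.left => j.appTop _) (congrArg CommaMorphism.left hφ.symm)

end Groth.Agent.ConstQuot97
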