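import Groth.Agent.ConstQuot97.InvSections
import Groth.Agent.ConstQuot97.Points
import Groth.Agent.ConstQuot97.UnitGen

/-!
The structure sheaf of the spectrum of invariants is the pushforward of that of the quotient stack.
-/

set_option autoImplicit false
set_option maxHeartbeats 1000000
set_option backward.isDefEq.respectTransparency false
set_option backward.isDefEq.respectTransparency.types false
universe u

open CategoryTheory CategoryTheory.Limits MonoidalCategory CartesianMonoidalCategory MonObj GrpObj AlgebraicGeometry AlgSt Opposite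
open Groth.Agent.AlgSt88

noncomputable section

namespace Groth.Agent.ConstQuot97

variable {R : Type u} [CommRing R] {A : Type u} [CommRing A] [Algebra R A]
variable {G : Type u} [Group G] [Fintype G] [DecidableEq G] [MulSemiringAction G A] [SMulCommClass G R A]

local notation "SR" => Spec (CommRingCat.of R)

theorem lift_const_act {T : Over SR} (q : T ⟶ ConstAct.X R A) (g : G) :
    lift (q ≫ CoactBr.pt (R := R) (ConstAct.constPt R G (K := A) g)) q ≫ (ConstAct.gaction R A G).act =
      q ≫ ConstAct.act R A G g⁻¹ := by
  have h := ConstAct.gaction_constPt R A G (K := A) g (AlgHom.id R A)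
  rw [CoactBr.pt_id, Category.id_comp] at h
  rw [← h, comp_lift_assoc, Category.comp_id]

/-- The unit of the quotient stack over the spectrum of invariants is bijective over flat schemes. -/
theorem unitSect_bijective
    (π : ConstAct.quotSt R A G Scheme.fppfPrecoverage ⥤ᵇ AlgSt.ofSch (ConstAct.specInv R A G))
    (hπ : BasedFunctor.comp
        (AlgSt.quotMap Scheme.fppfPrecoverage (ConstAct.GR R G) (ConstAct.gaction R A G)) π =
      AlgSt.ofSpMap ((AlgSp.yon SR).map (ConstAct.quot R A G)))
    (e₀ : (AlgSt.ofSch (ConstAct.specInv R A G)).obj) [Flat e₀.sec.down.left] :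
    Function.Bijective (StMod.unitSect π e₀) := by
  obtain ⟨_, _, _⟩ := GR_props (R := R) (G := G)
  have := isIntegralHom_quot (R := R) (A := A) (G := G)
  have := surjective_quot (R := R) (A := A) (G := G)
  have := dominant_quot (R := R) (A := A) (G := G)
  let u := e₀.sec.down
  let P : Over SR := Over.mk (pullback.fst u.left (ConstAct.quot R A G).left ≫ e₀.base.hom)
  let pE : P ⟶ e₀.base := Over.homMk (pullback.fst u.left (ConstAct.quot R A G).left) rfl
  let pX : P ⟶ ConstAct.X R A := Over.homMk (pullback.snd u.left (ConstAct.quot R A G).left) (by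
    show _ = pullback.fst u.left _ ≫ e₀.base.hom
    rw [← Over.w u, ← Category.assoc, pullback.condition, Category.assoc]
    exact congrArg (pullback.snd _ _ ≫ ·) (Over.w (ConstAct.quot R A G)).symm)
  have hP : IsPullback pE.left pX.left u.left (ConstAct.quot R A G).left := IsPullback.of_hasPullback _ _
  have hPw : pE ≫ u = pX ≫ ConstAct.quot R A G := Over.OverMorphism.ext pullback.condition
  obtain ⟨α₀, hα₀⟩ := exists_arrow hπ pX e₀ pE hPw
  constructor
  · intro r r' h
    have h1 : (StMod.baseOver π _ α₀).left.appTop r = (StMod.baseOver π _ α₀).left.appTop r' :=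
      congrArg (fun s : (StMod.O (ConstAct.quotSt R A G Scheme.fppfPrecoverage)).RelSect π e₀ => s.1 _ α₀) h
    rw [hα₀] at h1
    have : IsSchemeTheoreticallyDominant pE.left :=
      inferInstanceAs (IsSchemeTheoreticallyDominant (pullback.fst u.left _))
    have : QuasiCompact pE.left := inferInstanceAs (QuasiCompact (pullback.fst u.left _))
    exact pE.left.app_injective ⊤ h1
  · intro s
    let f₀ : Γ(P.left, ⊤) := s.1 _ α₀
    let σ : G → (P.left ⟶ P.left) := fun g => pullback.lift pE.left (pX.left ≫ (ConstAct.act R A G g).left) (by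
      rw [Category.assoc]
      exact pullback.condition.trans (congrArg (fun k => pX.left ≫ k) (congrArg CommaMorphism.left (ConstAct.act_quot R A G g)).symm))
    have hσE : ∀ g, σ g ≫ pE.left = pE.left := fun g => pullback.lift_fst _ _ _
    have hσX : ∀ g, σ g ≫ pX.left = pX.left ≫ (ConstAct.act R A G g).left := fun g => pullback.lift_snd _ _ _
    have hσf : ∀ g, (σ g).appTop f₀ = f₀ := fun g => by
      let σ' : P ⟶ P := Over.homMk (σ g) (by
        show σ g ≫ pE.left ≫ e₀.base.hom = pE.left ≫ e₀.base.hom
        rw [← Category.assoc, hσE])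
      have hE' : σ' ≫ pE = pE := Over.OverMorphism.ext (hσE g)
      have hX' : σ' ≫ pX = pX ≫ ConstAct.act R A G g := Over.OverMorphism.ext (hσX g)
      refine val_compat s σ' ((σ' ≫ pX) ≫ CoactBr.pt (R := R) (ConstAct.constPt R G (K := A) g)) pX pX ?_ α₀ α₀ ?_
      · rw [lift_const_act, hX', Category.assoc, ← ConstAct.act_mul, mul_inv_cancel, ConstAct.act_one]
        exact Category.comp_id _
      · rw [hα₀, hE']
    obtain ⟨r, hr⟩ := exists_of_invariant u.left pE.left pX.left hP σ hσE hσX f₀ hσf
    refine ⟨r, val_ext _ _ fun T q α => ?_⟩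
    have hsec := baseOver_sec hπ q α
    let z : T ⟶ P := Over.homMk (pullback.lift (StMod.baseOver π _ α).left q.left
      (congrArg CommaMorphism.left hsec)) (by
      show pullback.lift (f := u.left) (g := (ConstAct.quot R A G).left) _ _ _ ≫ pullback.fst _ _ ≫ e₀.base.hom = T.hom
      rw [pullback.lift_fst_assoc]
      exact Over.w (StMod.baseOver π _ α))
    have hzX : z ≫ pX = q := Over.OverMorphism.ext (pullback.lift_snd _ _ _)
    have hzE : z ≫ pE = StMod.baseOver π _ α := Over.OverMorphism.ext (pullback.lift_fst _ _ _)
    have h1 := val_compat s z (q ≫ CoactBr.pt (R := R) (ConstAct.constPt R G (K := A) (_root_.One.one : G))) pX q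
      (by
        rw [hzX, lift_const_act, show (One.one : G)⁻¹ = 1 from inv_one, ConstAct.act_one]
        exact Category.comp_id _) α₀ α (by rw [hα₀, hzE])
    refine Eq.trans ?_ h1
    show (StMod.baseOver π _ α).left.appTop r = z.left.appTop f₀
    rw [← hzE]
    exact congrArg z.left.appTop hr

end Groth.Agent.ConstQuot97
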