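import Groth.Agent.AlgSt88.UnivTopSt
import Groth.Agent.AlgSt88.Cancel
import Groth.Prelude.Def_StCoarse
import Groth.Prelude.Def_ConstAct2
import Mathlib.FieldTheory.IsAlgClosed.AlgebraicClosure
import Mathlib.RingTheory.Etale.Pi
import Mathlib.AlgebraicGeometry.Morphisms.Smooth

/-!
A morphism of an algebraic stack to a scheme which is bijective on geometric points and dominated by
a universally closed surjective morphism of schemes is a universal homeomorphism.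
-/

set_option autoImplicit false
set_option maxHeartbeats 1000000
set_option backward.isDefEq.respectTransparency false
set_option backward.isDefEq.respectTransparency.types false
universe u

open CategoryTheory CategoryTheory.Limits AlgebraicGeometry AlgSt Opposite FibCat
open Groth.Agent.AlgSt88

noncomputable section

namespace Groth.Agent.ConstQuot97

variable {S : Scheme.{u}} {𝒳 : AlgSt.Cat S} {X Y : Over S}

theorem isUnivClosedMor_yon (f : X ⟶ Y) [UniversallyClosed f.left] :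
    AlgSp.IsUnivClosedMor ((AlgSp.yon S).map f) :=
  SpPts86.isUnivClosedMor_of_affine fun T _ g Q fst snd sq => by
    have hf : AlgSp.RepWith @UniversallyClosed ((AlgSp.yon S).map f) := (AlgSp.repWith_yon_map_iff _ f).2 ‹_›
    obtain ⟨W, s, p, hW⟩ := hf.rep g
    have : UniversallyClosed s.left := hf.property g p s hW
    have e : snd = (sq.isoIsPullback _ _ hW).hom ≫ (AlgSp.yon S).map s := (sq.isoIsPullback_hom_snd _ _ hW).symm
    rw [e]
    have h1 : IsClosedMap (AlgSp.Points.map ((AlgSp.yon S).map s)) :=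
      (SpPts86.isClosedMap_map_yon_iff s).2 s.left.isClosedMap
    intro C hC
    have h2 : AlgSp.Points.map ((sq.isoIsPullback _ _ hW).hom ≫ (AlgSp.yon S).map s) '' C =
        AlgSp.Points.map ((AlgSp.yon S).map s) '' (AlgSp.Points.map (sq.isoIsPullback _ _ hW).inv ⁻¹' C) := by
      ext z
      constructor
      · rintro ⟨c, hc, rfl⟩
        refine ⟨AlgSp.Points.map (sq.isoIsPullback _ _ hW).hom c, ?_, (AlgSp.Points.map_comp _ _ _).symm⟩
        show AlgSp.Points.map _ (AlgSp.Points.map _ c) ∈ C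
        rw [← AlgSp.Points.map_comp, Iso.hom_inv_id, AlgSp.Points.map_id]
        exact hc
      · rintro ⟨c, hc, rfl⟩
        refine ⟨_, hc, ?_⟩
        rw [← AlgSp.Points.map_comp, Iso.inv_hom_id_assoc]
    rw [h2]
    exact h1 _ (hC.preimage (AlgSp.Points.continuous_map _))

theorem respectsIso_univSp (Q : MorphismProperty (AlgSp.Sp S)) : (AlgSp.UnivSp Q).RespectsIso :=
  MorphismProperty.RespectsIso.mk _
    (fun e a ha Z Z' hZ g fst snd sq => ha hZ g (fst ≫ e.hom) snd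
      (by
        refine IsPullback.of_iso sq (Iso.refl _) e (Iso.refl _) (Iso.refl _) ?_ ?_ ?_ ?_ <;> simp))
    (fun e a ha Z Z' hZ g fst snd sq => ha hZ (g ≫ e.inv) fst snd
      (by
        refine IsPullback.of_iso sq (Iso.refl _) (Iso.refl _) (Iso.refl _) e.symm ?_ ?_ ?_ ?_ <;> simp))

theorem isUnivClosed_ofSpMap (f : X ⟶ Y) [UniversallyClosed f.left] :
    IsUnivClosed Scheme.fppfPrecoverage (ofSpMap ((AlgSp.yon S).map f)) := by
  let F : AlgSp.Space S := ⟨_, AlgSp.IsAlgSpace.yon_obj X⟩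
  let F' : AlgSp.Space S := ⟨_, AlgSp.IsAlgSpace.yon_obj Y⟩
  have h : RepByAlgSpWith AlgSp.IsUnivClosedMor (ofSpMap ((AlgSp.yon S).map f)) :=
    repByAlgSpWith_ofSpMap (F := F) (G := F')
      (fun _ _ _ _ _ _ _ _ a b a' b' sq ha => fun Z Z' hZ g fst snd sq' => ha Z Z' hZ (g ≫ b) (fst ≫ b') snd (sq'.paste_horiz sq))
      (respectsIso_univSp _) _ (isUnivClosedMor_yon f)
  exact (univClosed_iff (isDM_ofSp F).1 (isDM_ofSp F').1 (repByAlgSp1_of_with h)).1 h

theorem exists_hom_over {η η' : (ofSch Y).obj} (b : η.base ⟶ η'.base) (hb : b ≫ η'.sec.down = η.sec.down) :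
    ∃ m : η ⟶ η', m.hom = b :=
  ⟨⟨b, congrArg ULift.up hb⟩, rfl⟩

/-- The projection of the fibre product is injective on points. -/
theorem injective_fpFst {π : 𝒳 ⥤ᵇ ofSch Y} (hX : IsFibGrpd 𝒳.p) (hπ : GeomPtBij π) {𝒵 : AlgSt.Cat S}
    (hZ : IsFibGrpd 𝒵.p) (g : 𝒵 ⥤ᵇ ofSch Y) : Function.Injective (Points.map (fpFst g π)) := by
  intro w w' h
  obtain ⟨p, rfl⟩ := Points.mk_surjective w
  obtain ⟨q, rfl⟩ := Points.mk_surjective w'
  obtain ⟨r, a, b, -⟩ := rel_of_mk_eq hZ (p := p.map (fpFst g π)) (q := q.map (fpFst g π)) h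
  let Ω := AlgebraicClosure r.K
  let t : Spec (CommRingCat.of Ω) ⟶ S := Spec.map (CommRingCat.ofHom (algebraMap r.K Ω)) ≫ r.str
  let d : Over.mk t ⟶ Over.mk r.str := Over.homMk (Spec.map (CommRingCat.ofHom (algebraMap r.K Ω))) rfl
  obtain ⟨z, hz, φ, hφ⟩ := fg_exists_lift hZ (d ≫ eqToHom r.lies.symm)
  have key : ∀ (v : FPt (fp g π)) (c : r.obj ⟶ v.obj.obj.fst),
      ∃ (ξ : 𝒳.p.Fiber (Over.mk t)) (ψ : ξ.1 ⟶ v.obj.obj.snd),
        (g.map (φ ≫ c) ≫ v.obj.obj.iso.hom).hom =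
          eqToHom ((g.w_obj z).trans (hz.trans (ξ.2.symm.trans (π.w_obj ξ.1).symm))) ≫ (π.map ψ).hom := by
    intro v c
    have hv : (ofSch Y).p.IsHomLift (𝟙 (𝒵.p.obj v.obj.obj.fst)) v.obj.obj.iso.hom := v.obj.property
    have hs : 𝒳.p.obj v.obj.obj.snd = 𝒵.p.obj v.obj.obj.fst :=
      (π.w_obj _).symm.trans (IsHomLift.codomain_eq (ofSch Y).p (𝟙 (𝒵.p.obj v.obj.obj.fst)) v.obj.obj.iso.hom)
    obtain ⟨ξ, hξ, ψ, hψ⟩ := fg_exists_lift hX (eqToHom hz.symm ≫ 𝒵.p.map (φ ≫ c) ≫ eqToHom hs.symm)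
    refine ⟨⟨ξ, hξ⟩, ψ, ?_⟩
    have h1 : (g.map (φ ≫ c)).hom = _ := p_map_eq g (φ ≫ c)
    have h2 : (π.map ψ).hom = _ := p_map_eq π ψ
    have h3 := IsHomLift.fac' (ofSch Y).p (𝟙 (𝒵.p.obj v.obj.obj.fst)) v.obj.obj.iso.hom
    change v.obj.obj.iso.hom.hom = _ at h3
    show (g.map (φ ≫ c)).hom ≫ v.obj.obj.iso.hom.hom = _
    rw [h1, h2, h3, hψ]
    simp
  obtain ⟨ξ₁, ψ₁, e₁⟩ := key p a
  obtain ⟨ξ₂, ψ₂, e₂⟩ := key q b
  have hsec : ∀ {v : FPt (fp g π)} {c : r.obj ⟶ v.obj.obj.fst} {ξ : 𝒳.p.Fiber (Over.mk t)}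
      {ψ : ξ.1 ⟶ v.obj.obj.snd}
      (_ : (g.map (φ ≫ c) ≫ v.obj.obj.iso.hom).hom =
          eqToHom ((g.w_obj z).trans (hz.trans (ξ.2.symm.trans (π.w_obj ξ.1).symm))) ≫ (π.map ψ).hom),
      eqToHom ((g.w_obj z).trans (hz.trans (ξ.2.symm.trans (π.w_obj ξ.1).symm))) ≫ (π.obj ξ.1).sec.down =
        (g.obj z).sec.down := by
    intro v c ξ ψ e
    have h1 : (g.map (φ ≫ c) ≫ v.obj.obj.iso.hom).hom ≫ (π.obj v.obj.obj.snd).sec.down = (g.obj z).sec.down :=
      congrArg ULift.down (g.map (φ ≫ c) ≫ v.obj.obj.iso.hom).map_sec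
    have h2 : (π.map ψ).hom ≫ (π.obj v.obj.obj.snd).sec.down = (π.obj ξ.1).sec.down :=
      congrArg ULift.down (π.map ψ).map_sec
    rw [← h2, ← Category.assoc, ← e, h1]
  have hs₁ := hsec e₁
  have hs₂ := hsec e₂
  have hfib : fibSec π ξ₂ = fibSec π ξ₁ := by
    apply ULift.ext
    change eqToHom ((π.w_obj ξ₂.1).trans ξ₂.2).symm ≫ (π.obj ξ₂.1).sec.down =
      eqToHom ((π.w_obj ξ₁.1).trans ξ₁.2).symm ≫ (π.obj ξ₁.1).sec.down
    rw [← cancel_epi (eqToHom ((g.w_obj z).trans hz)), eqToHom_trans_assoc, eqToHom_trans_assoc]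
    exact hs₂.trans hs₁.symm
  obtain ⟨e⟩ := (hπ Ω t).2 ξ₁ ξ₂ hfib.symm
  obtain ⟨i, hi⟩ := exists_hom_over (η := g.obj z) (η' := π.obj ξ₁.1) _ hs₁
  haveI : IsIso ((ofSch Y).p.map i) := by
    change IsIso i.hom
    rw [hi]; infer_instance
  haveI := fg_isIso_of_isIso_map (isDM_ofSp ⟨_, AlgSp.IsAlgSpace.yon_obj Y⟩).1.isStack.1 i
  let w₀ : FPt (fp g π) :=
    { K := Ω, str := t,
      obj := ⟨⟨z, ξ₁.1, asIso i⟩, IsHomLift.of_fac' (ofSch Y).p _ _ (g.w_obj z)
        ((π.w_obj ξ₁.1).trans (ξ₁.2.trans hz.symm)) (by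
          change i.hom = _
          rw [hi]; simp)⟩,
      lies := hz }
  have he : 𝒳.p.map e.hom.1 = eqToHom (ξ₁.2.trans ξ₂.2.symm) := by
    haveI := e.hom.2
    simpa using IsHomLift.fac' 𝒳.p (𝟙 (Over.mk t)) e.hom.1
  let m₁ : w₀.obj ⟶ p.obj := ObjectProperty.homMk
    { fst := φ ≫ a, snd := ψ₁, w := Stk.EltObj.hom_ext (by
        show (g.map (φ ≫ a) ≫ p.obj.obj.iso.hom).hom = (asIso i).hom.hom ≫ (π.map ψ₁).hom
        rw [e₁, asIso_hom, hi]) }
  let m₂ : w₀.obj ⟶ q.obj := ObjectProperty.homMk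
    { fst := φ ≫ b, snd := e.hom.1 ≫ ψ₂, w := Stk.EltObj.hom_ext (by
        show (g.map (φ ≫ b) ≫ q.obj.obj.iso.hom).hom = (asIso i).hom.hom ≫ (π.map (e.hom.1 ≫ ψ₂)).hom
        have h4 : (π.map e.hom.1).hom = _ := p_map_eq π e.hom.1
        rw [e₂, asIso_hom, hi, Functor.map_comp]
        change _ = _ ≫ (π.map e.hom.1).hom ≫ (π.map ψ₂).hom
        rw [h4, he]
        simp) }
  exact Points.sound ⟨w₀, m₁, m₂, trivial⟩

/-- The criterion for universal homeomorphisms. -/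
theorem isUnivHomeo_of_cover (h𝒳 : IsAlgStack Scheme.fppfPrecoverage 𝒳) (π : 𝒳 ⥤ᵇ ofSch Y) (hπ : GeomPtBij π)
    (c : ofSch X ⥤ᵇ 𝒳) (f : X ⟶ Y) [UniversallyClosed f.left] [Surjective f.left]
    (hc : BasedFunctor.comp c π = ofSpMap ((AlgSp.yon S).map f)) :
    IsUnivHomeo Scheme.fppfPrecoverage π := by
  intro 𝒵 h𝒵 g
  let F : AlgSp.Space S := ⟨_, AlgSp.IsAlgSpace.yon_obj X⟩
  let F' : AlgSp.Space S := ⟨_, AlgSp.IsAlgSpace.yon_obj Y⟩
  have hX := h𝒳.isStack.1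
  have hY := (isDM_ofSp F').1.isStack.1
  have hZ := h𝒵.isStack.1
  have hinj := injective_fpFst hX hπ hZ g
  have hsurjf : IsSurjective (ofSpMap ((AlgSp.yon S).map f)) := fun y => by
    obtain ⟨τ, rfl⟩ := stPt_bijective.2 y
    obtain ⟨y₀, rfl⟩ := (AlgSp.Points.schemeHomeo Y).surjective τ
    obtain ⟨x₀, rfl⟩ := f.left.surjective y₀
    exact ⟨stPt _ (AlgSp.Points.schemeHomeo X x₀), by rw [stPt_natural, AlgSp.Points.map_yon_map_apply]⟩
  have hsurj : Function.Surjective (Points.map (fpFst g π)) := by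
    refine isSurjective_fpFst hY hX hZ g fun y => ?_
    obtain ⟨x, rfl⟩ := hsurjf y
    exact ⟨Points.map c x, by rw [← points_map_comp, hc]⟩
  suffices hcl : IsClosedMap (Points.map (fpFst g π)) from ⟨continuous_map h𝒵 _, fun U hU => by
    have h := hcl _ hU.isClosed_compl
    rw [Set.image_compl_eq ⟨hinj, hsurj⟩] at h
    exact isClosed_compl_iff.1 h, hinj, hsurj⟩
  intro A hA
  let c' : fp g (BasedFunctor.comp c π) ⥤ᵇ fp g π := fpMapSnd g π c
  have hfp := isAlgStack_fp (isDM_ofSp F').1.isStack (isDM_ofSp F').1.diag h𝒵 h𝒳 g π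
  have hcont : Continuous (Points.map c') := continuous_map hfp c'
  have hclosed : IsClosedMap (Points.map (fpFst g (BasedFunctor.comp c π))) := by
    rw [hc]; exact isUnivClosed_ofSpMap f 𝒵 h𝒵 g
  have hsurj' : Function.Surjective (Points.map (fpFst g (BasedFunctor.comp c π))) := by
    rw [hc]; exact isSurjective_fpFst hY (isDM_ofSp F).1.isStack.1 hZ g hsurjf
  have hfac : ∀ w, Points.map (fpFst g π) (Points.map c' w) = Points.map (fpFst g (BasedFunctor.comp c π)) w :=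
    fun w => by obtain ⟨p, rfl⟩ := Points.mk_surjective w; rfl
  have : Points.map (fpFst g π) '' A =
      Points.map (fpFst g (BasedFunctor.comp c π)) '' (Points.map c' ⁻¹' A) := by
    ext z
    constructor
    · rintro ⟨w, hw, rfl⟩
      obtain ⟨w', hw'⟩ := hsurj' (Points.map (fpFst g π) w)
      refine ⟨w', ?_, hw'⟩
      show Points.map c' w' ∈ A
      rw [hinj ((hfac w').trans hw')]
      exact hw
    · rintro ⟨w, hw, rfl⟩
      exact ⟨_, hw, hfac w⟩
  rw [this]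
  exact hclosed _ (hA.preimage hcont)

/-- The constant group scheme is smooth. -/
theorem smooth_GR {R : Type u} [CommRing R] {G : Type u} [Group G] [Fintype G] [DecidableEq G] :
    Smooth (ConstAct.GR R G).hom := by
  haveI : Algebra.Etale R (G → R) := inferInstance
  haveI : Algebra.Etale R (ConstGrp.F R G) := Algebra.Etale.of_equiv (ConstGrp.equivFun R G).symm
  show Smooth (Spec.map (CommRingCat.ofHom (algebraMap R (ConstGrp.F R G))))
  refine HasRingHomProperty.Spec_iff.2 ?_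
  exact RingHom.smooth_algebraMap.2 inferInstance

end Groth.Agent.ConstQuot97
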